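import Cfsg.Agent.SelfCentThree.Simple

/-!
# Groups with a self-centralising element of order three

The structure theorem, by induction on the order.
-/

set_option autoImplicit false
set_option linter.style.haveILetI false

namespace Cfsg.Agent.SelfCentThree

open Subgroup
open Cfsg.Agent.Fusion (cj)
open scoped commutatorElement

universe u

/-- The structure of a group with a self-centralising element `x` of order three. -/
def Out {G : Type u} [Group G] (x : G) : Prop :=
  Nat.card (G ⧸ pPrimeCore 3 G) = 3 ∨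
  Nat.card (G ⧸ pPrimeCore 3 G) = 6 ∨
  (IsSimpleGroup (G ⧸ pPrimeCore 3 G) ∧ Nat.card (G ⧸ pPrimeCore 3 G) = 60 ∧
    IsMulCommutative (pPrimeCore 3 G) ∧ (∀ o ∈ pPrimeCore 3 G, o ^ 2 = 1) ∧
    IsPGroup 2 (pPrimeCore 3 G) ∧ ∃ R : Subgroup G, Inv x R ∧ pPrimeCore 3 G < R) ∨
  (pPrimeCore 3 G = ⊥ ∧ IsSimpleGroup G ∧ Nat.card G = 168)

/-- What the induction gives of a subgroup over `x`. -/
theorem local_of_out {G : Type u} [Group G] [Finite G] {x : G} {K : Subgroup G} (hx : x ∈ K)
    (h : Out (⟨x, hx⟩ : K)) : Local x K := by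
  haveI : Fact (Nat.Prime 3) := ⟨Nat.prime_three⟩
  set O := pPrimeCore 3 K with hO
  have hcO : Nat.card (O.map K.subtype) = Nat.card O := Subgroup.card_subtype K O
  have hIO := inv_core (⟨x, hx⟩ : K)
  have hK : Nat.card K = Nat.card O * Nat.card (K ⧸ O) := by
    rw [← Subgroup.card_mul_index O, Subgroup.index_eq_card]
  refine ⟨O.map K.subtype, map_subtype_le _, ?_, ⟨?_, by rw [hcO]; exact hIO.ndvd⟩, ?_, ?_⟩
  · intro k hk
    rw [← Fusion.cj_eq_iff_mem_normalizer]
    refine Subgroup.eq_of_le_of_card_ge ?_ (Fusion.card_cj k _).ge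
    rintro _ ⟨_, ⟨o, ho, rfl⟩, rfl⟩
    exact ⟨⟨k, hk⟩ * o * ⟨k, hk⟩⁻¹, (inferInstance : O.Normal).conj_mem o ho _, rfl⟩
  · rintro _ ⟨o, ho, rfl⟩
    exact ⟨⟨x, hx⟩ * o * ⟨x, hx⟩⁻¹, hIO.conj o ho, rfl⟩
  · intro M hMK hKM h3
    haveI : (M.subgroupOf K).Normal := normal_subgroupOf_of_le_normalizer hKM
    have h1 : M.subgroupOf K ≤ O := Cores.le_pPrimeCore_of_not_dvd inferInstance
      (by rwa [Nat.card_congr (Subgroup.subgroupOfEquivOfLe hMK).toEquiv])
    intro m hm
    exact ⟨⟨m, hMK hm⟩, h1 hm, rfl⟩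
  · rw [hcO]
    rcases h with e | e | ⟨-, e, -, -, h2, R, hR, hlt⟩ | ⟨e, -, -⟩
    · exact Or.inl (by rw [hK, e, mul_comm])
    · exact Or.inr (Or.inl (by rw [hK, e, mul_comm]))
    · refine Or.inr (Or.inr (Or.inl ⟨by rw [hK, e, mul_comm], h2.map _, R.map K.subtype,
        ⟨?_, ?_⟩, Subgroup.map_lt_map_iff_of_injective K.subtype_injective |>.2 hlt⟩))
      · rintro _ ⟨o, ho, rfl⟩
        exact ⟨⟨x, hx⟩ * o * ⟨x, hx⟩⁻¹, hR.conj o ho, rfl⟩
      · rw [Subgroup.card_subtype]; exact hR.ndvd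
    · exact Or.inr (Or.inr (Or.inr (by rw [hO, e, Subgroup.map_bot])))

theorem seven_invariant {G : Type u} [Group G] [Finite G] {x : G} (h : SC x) [IsSimpleGroup G]
    (hna : ¬ IsMulCommutative G) (hc : Nat.card G = 168) :
    ∃ V : Subgroup G, Inv x V ∧ Nat.card V = 7 := by
  haveI : Fact (Nat.Prime 7) := ⟨by norm_num⟩
  haveI : Fact (Nat.Prime 3) := ⟨Nat.prime_three⟩
  have hd := SmallGroups.card_sylow_dvd (p := 7) (a := 1) (m := 24) (G := G)
    (by rw [hc]; norm_num)
  have h1 : Nat.card (Sylow 7 G) % 7 = 1 := card_sylow_modEq_one 7 G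
  have h2 := SmallGroups.one_lt_card_sylow hna (p := 7) (by rw [hc]; norm_num)
  have hle := Nat.le_of_dvd (by norm_num) hd
  have h8 : Nat.card (Sylow 7 G) = 8 := by interval_cases Nat.card (Sylow 7 G) <;> omega
  have hp : IsPGroup 3 (zpowers x) :=
    IsPGroup.of_card (n := 1) (by rw [Nat.card_zpowers, h.order, pow_one])
  obtain ⟨P, hP⟩ := hp.nonempty_fixed_point_of_prime_not_dvd_card (Sylow 7 G) (by rw [h8]; norm_num)
  have hfix : (x • P : Sylow 7 G) = P := hP ⟨x, mem_zpowers x⟩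
  have hcP : Nat.card (P : Subgroup G) = 7 := by
    rw [SmallGroups.card_sylow_subgroup (p := 7) (a := 1) (m := 24) (by rw [hc]; norm_num)
      (by norm_num) P, pow_one]
  refine ⟨P, ⟨fun m hm => ?_, by rw [hcP]; norm_num⟩, hcP⟩
  have h3 := congrArg Sylow.toSubgroup hfix
  rw [Fusion.coe_smul_sylow] at h3
  exact h3 ▸ Fusion.conj_mem_cj.2 hm

theorem sq_eq_one_of_four {G : Type u} [Group G] [Finite G] {x : G} (h : SC x) {R : Subgroup G}
    (hR : Inv x R) (h4 : Nat.card R = 4) {r : G} (hr : r ∈ R) : r * r = 1 := by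
  by_contra hne
  have hd : orderOf r ∣ 2 ^ 2 := by
    have := Subgroup.orderOf_dvd_natCard R hr
    rwa [h4] at this
  obtain ⟨j, hj, hjo⟩ := (Nat.dvd_prime_pow Nat.prime_two).1 hd
  have ho : orderOf r = 4 := by
    have hj2 : j = 2 := by
      by_contra hj2
      refine hne ?_
      rw [← pow_two, ← orderOf_dvd_iff_pow_eq_one, hjo]
      exact (Nat.pow_dvd_pow 2 (show j ≤ 1 by omega)).trans (by norm_num)
    rw [hjo, hj2]
    norm_num
  have hzR : zpowers r = R :=
    Subgroup.eq_of_le_of_card_ge (zpowers_le.2 hr) (by rw [Nat.card_zpowers, ho, h4])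
  obtain ⟨k, hk⟩ := mem_powers_iff_mem_zpowers.2 (hzR ▸ hR.conj r hr : x * r * x⁻¹ ∈ zpowers r)
  simp only at hk
  have e : x * (r * r) * x⁻¹ = (r * r) ^ k := by
    rw [← pow_two, ← pow_mul, mul_comm 2 k, pow_mul, hk, pow_two, pow_two]; group
  have h2 : (r * r) * (r * r) = 1 := by
    calc (r * r) * (r * r) = r ^ 4 := by simp [pow_succ, mul_assoc]
      _ = 1 := by rw [← ho, pow_orderOf_eq_one]
  rcases Nat.even_or_odd' k with ⟨l, rfl | rfl⟩
  · rw [pow_mul, pow_two, h2, one_pow, conj_eq_one_iff] at e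
    exact hne e
  · rw [pow_succ, pow_mul, pow_two, h2, one_pow, one_mul] at e
    exact hne (hR.eq_one h (mul_mem hr hr) (mul_inv_eq_iff_eq_mul.1 e).symm)

theorem coreFree_cases {Q : Type u} [Group Q] [Finite Q] {x : Q} (h : SC x)
    (hbot : pPrimeCore 3 Q = ⊥)
    (ih : ∀ (K : Subgroup Q) (y : K), K ≠ ⊤ → SC y → Out y) :
    Nat.card Q = 3 ∨ Nat.card Q = 6 ∨ (IsSimpleGroup Q ∧ ¬ IsMulCommutative Q ∧
      (Nat.card Q = 60 ∨ Nat.card Q = 168) ∧ ∃ R : Subgroup Q, Inv x R ∧ Nat.card R = 4) := by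
  haveI : Fact (Nat.Prime 3) := ⟨Nat.prime_three⟩
  haveI : Nontrivial Q := ⟨⟨x, 1, h.ne_one⟩⟩
  by_cases hsimp : IsSimpleGroup Q
  · by_cases hna : IsMulCommutative Q
    · exact Or.inl ((Nat.prime_dvd_prime_iff_eq Nat.prime_three
        (SmallGroups.prime_card_of_isMulCommutative hna)).1 h.three_dvd).symm
    · have hS : Setup Q := ⟨hsimp, hna, ⟨x, h⟩, fun y K hy hyK hK =>
        local_of_out hyK (ih K ⟨y, hyK⟩ hK ((h.of_order hy).subgroup hyK))⟩
      obtain ⟨h1, R, hR, h4⟩ := simple_card hS h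
      exact Or.inr (Or.inr ⟨hsimp, hna, h1, R, hR, h4⟩)
  · obtain ⟨N, hN, hN1, hN2⟩ : ∃ N : Subgroup Q, N.Normal ∧ N ≠ ⊥ ∧ N ≠ ⊤ := by
      by_contra hno
      push Not at hno
      exact hsimp ⟨fun N hN => or_iff_not_imp_left.2 (hno N hN)⟩
    have hxN : x ∈ N := h.mem_of_normal hN (by rw [hbot, le_bot_iff]; exact hN1)
    -- outside `N` everything inverts `x` modulo `N`
    have hcases : ∀ g : Q, g ∈ N ∨ ∃ n ∈ N, (n * g) * x * (n * g)⁻¹ = x⁻¹ := fun g => by
      have hy : g * x * g⁻¹ ∈ N := hN.conj_mem x hxN g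
      obtain ⟨n, hn⟩ := (h.subgroup hxN).exists_conj (y := ⟨_, hy⟩)
        (by rw [Subgroup.orderOf_mk]; exact (h.conj g).order)
      rcases hn with e | e
      · have e' : (n : Q) * x * (n : Q)⁻¹ = g * x * g⁻¹ := congrArg Subtype.val e
        refine Or.inl ?_
        have hc : Commute ((n : Q)⁻¹ * g) x := mul_inv_eq_iff_eq_mul.1 (by
          calc (n : Q)⁻¹ * g * x * ((n : Q)⁻¹ * g)⁻¹ = (n : Q)⁻¹ * (g * x * g⁻¹) * n := by group
            _ = x := by rw [← e']; group)
        have := mul_mem n.2 ((zpowers_le.2 hxN) (h.cent _ hc))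
        rwa [mul_inv_cancel_left] at this
      · have e' : (n : Q) * x⁻¹ * (n : Q)⁻¹ = g * x * g⁻¹ := congrArg Subtype.val e
        refine Or.inr ⟨(n : Q)⁻¹, inv_mem n.2, ?_⟩
        calc (n : Q)⁻¹ * g * x * ((n : Q)⁻¹ * g)⁻¹ = (n : Q)⁻¹ * (g * x * g⁻¹) * n := by group
          _ = x⁻¹ := by rw [← e']; group
    obtain ⟨g, hg⟩ : ∃ g, g ∉ N := by
      by_contra hno
      push Not at hno
      exact hN2 (Subgroup.eq_top_iff' _ |>.2 hno)
    obtain ⟨n, hn, hs⟩ := (hcases g).resolve_left hg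
    have hsN : n * g ∉ N := fun e => hg (by simpa using mul_mem (inv_mem hn) e)
    have hidx : N.index = 2 := by
      rw [Subgroup.index_eq_two_iff]
      refine ⟨n * g, fun b => ?_⟩
      by_cases hb : b ∈ N
      · exact Or.inr ⟨hb, fun e => hsN (by simpa using mul_mem (inv_mem hb) e)⟩
      · refine Or.inl ⟨?_, hb⟩
        obtain ⟨m, hm, hbm⟩ := (hcases b).resolve_left hb
        have hc : Commute ((m * b) * (n * g)) x := mul_inv_eq_iff_eq_mul.1 (by
          calc m * b * (n * g) * x * (m * b * (n * g))⁻¹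
              = m * b * ((n * g) * x * (n * g)⁻¹) * (m * b)⁻¹ := by group
            _ = ((m * b) * x * (m * b)⁻¹)⁻¹ := by rw [hs]; group
            _ = x := by rw [hbm, inv_inv])
        have := mul_mem (inv_mem hm) ((zpowers_le.2 hxN) (h.cent _ hc))
        simpa [mul_assoc] using this
    have hnoinv : ¬ ∃ m : N, m * ⟨x, hxN⟩ * m⁻¹ = (⟨x, hxN⟩ : N)⁻¹ := by
      rintro ⟨m, hm⟩
      have hm' : (m : Q) * x * (m : Q)⁻¹ = x⁻¹ := congrArg Subtype.val hm
      have hc : Commute ((n * g) * (m : Q)) x := mul_inv_eq_iff_eq_mul.1 (by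
        calc n * g * (m : Q) * x * (n * g * (m : Q))⁻¹
            = n * g * ((m : Q) * x * (m : Q)⁻¹) * (n * g)⁻¹ := by group
          _ = ((n * g) * x * (n * g)⁻¹)⁻¹ := by rw [hm']; group
          _ = x := by rw [hs, inv_inv])
      have := mul_mem ((zpowers_le.2 hxN) (h.cent _ hc)) (inv_mem m.2)
      exact hsN (by simpa [mul_assoc] using this)
    have hmod : Nat.card N % 9 = 3 := by
      rcases (h.subgroup hxN).card_cases with ⟨e, -⟩ | ⟨-, e⟩
      exacts [absurd e hnoinv, e]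
    have hcoreN : pPrimeCore 3 N = ⊥ := by
      have h1 := Cores.map_subtype_pPrimeCore_le (p := 3) (N := N)
      rw [hbot, le_bot_iff, Subgroup.map_eq_bot_iff_of_injective _ N.subtype_injective] at h1
      exact h1
    have hcQ : Nat.card (N ⧸ pPrimeCore 3 N) = Nat.card N := by
      rw [← Subgroup.index_eq_card, hcoreN, Subgroup.index_bot]
    have hN3 : Nat.card N = 3 := by
      rcases ih N ⟨x, hxN⟩ hN2 (h.subgroup hxN) with e | e | ⟨-, e, -⟩ | ⟨-, -, e⟩
      · omega
      · omega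
      · omega
      · omega
    refine Or.inr (Or.inl ?_)
    rw [← Subgroup.card_mul_index N, hidx, hN3]

theorem out_all : ∀ (n : ℕ) {G : Type u} [Group G] [Finite G] (x : G),
    Nat.card G = n → SC x → Out x := by
  intro n
  induction n using Nat.strong_induction_on with
  | _ n ih =>
  intro G _ _ x hn h
  haveI : Fact (Nat.Prime 3) := ⟨Nat.prime_three⟩
  have hIO : Inv x (pPrimeCore 3 G) := inv_core x
  set O := pPrimeCore 3 G with hO
  set Q := G ⧸ O with hQ
  set π := QuotientGroup.mk' O with hπ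
  have hπs : Function.Surjective π := QuotientGroup.mk'_surjective O
  have hx' : SC (π x) := h.quotient O hIO.ndvd
  have hcard : Nat.card G = Nat.card O * Nat.card Q := by
    rw [← Subgroup.card_mul_index O, Subgroup.index_eq_card]
  have hQG : Nat.card Q ≤ Nat.card G := by
    rw [hcard]; exact Nat.le_mul_of_pos_left _ Nat.card_pos
  have hIH : ∀ (K : Subgroup Q) (y : K), K ≠ ⊤ → SC y → Out y := fun K y hK hy =>
    ih (Nat.card K) (by
      rw [← hn]
      refine lt_of_lt_of_le ?_ hQG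
      have h1 := Fusion.card_lt_card (lt_top_iff_ne_top.2 hK)
      rwa [Subgroup.card_top] at h1) y rfl hy
  rcases coreFree_cases hx' Cores.pPrimeCore_quotient_pPrimeCore_eq_bot hIH with
    e | e | ⟨hsimp, hna, hc, R0, hR0, h4⟩
  · exact Or.inl e
  · exact Or.inr (Or.inl e)
  set R := R0.comap π with hRdef
  have hcR : Nat.card R = Nat.card O * 4 := h4 ▸ Cores.card_comap_mk_eq O R0
  have hR : Inv x R := by
    refine ⟨fun m hm => ?_, fun e3 => ?_⟩
    · show π (x * m * x⁻¹) ∈ R0
      rw [map_mul, map_mul, map_inv]; exact hR0.conj _ hm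
    · rw [hcR] at e3
      rcases (Nat.Prime.dvd_mul Nat.prime_three).1 e3 with e' | e'
      · exact hIO.ndvd e'
      · norm_num at e'
  have hOR : O ≤ R := fun o ho => by
    show π o ∈ R0
    rw [show π o = 1 from (QuotientGroup.eq_one_iff o).2 ho]; exact one_mem _
  have hne : O < R := lt_of_le_of_ne hOR fun e => by
    rw [← e] at hcR
    have := Nat.card_pos (α := O)
    omega
  -- an element of `R` outside `O` of 2-power order
  obtain ⟨P⟩ : Nonempty (Sylow 2 R) := inferInstance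
  obtain ⟨t, htP, htO⟩ : ∃ t ∈ (P : Subgroup R), (t : G) ∉ O := by
    by_contra hno
    push Not at hno
    have hle : (P : Subgroup R).map R.subtype ≤ O := by
      rintro _ ⟨t, ht, rfl⟩; exact hno t ht
    have h1 := Subgroup.card_dvd_of_le hle
    rw [Subgroup.card_subtype, P.card_eq_multiplicity, hcR] at h1
    have h2 : 2 ^ ((Nat.card O).factorization 2 + 2) ∣ Nat.card O * 4 := by
      rw [pow_add]; exact Nat.mul_dvd_mul_right (Nat.ordProj_dvd _ _) _
    have h3 := (Nat.Prime.pow_dvd_iff_le_factorization Nat.prime_two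
      (by have := Nat.card_pos (α := O); omega)).1 h2
    have h4' := (Nat.Prime.pow_dvd_iff_le_factorization Nat.prime_two Nat.card_pos.ne').1 h1
    omega
  obtain ⟨k, hk⟩ := P.2 ⟨t, htP⟩
  have hk' : (t : G) ^ 2 ^ k = 1 :=
    congrArg (fun w : (P : Subgroup R) => ((w : R) : G)) hk
  haveI := hR.isNilpotent h
  -- centralisers of characteristic parts of `O` contain `x`
  have hkey : ∀ p : G → Prop, (∀ g o, p o → p (g * o * g⁻¹)) → (∀ o, p o → o ∈ O) →
      ∀ a : G, a ∉ O → (∀ o, p o → Commute a o) → ∀ o, p o → o = 1 := by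
    intro p hp hpO a ha hca o ho
    let C : Subgroup G := centralizer {o | p o}
    have hC : C.Normal := ⟨fun c hc g => mem_centralizer_iff.2 fun o ho => by
      have h1 : g⁻¹ * o * g⁻¹⁻¹ * c = c * (g⁻¹ * o * g⁻¹⁻¹) :=
        mem_centralizer_iff.1 hc _ (hp g⁻¹ o ho)
      calc o * (g * c * g⁻¹) = g * (g⁻¹ * o * g⁻¹⁻¹ * c) * g⁻¹ := by group
        _ = g * c * g⁻¹ * o := by rw [h1]; group⟩
    have hxC : x ∈ C := h.mem_of_normal hC fun hle => ha (hle
      (mem_centralizer_iff.2 fun o ho => (hca o ho).eq.symm))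
    exact hIO.eq_one h (hpO o ho) (mem_centralizer_iff.1 hxC o ho)
  -- the core is a 2-group
  have hO2 : IsPGroup 2 O := by
    have hodd : ∀ o, (o ∈ O ∧ ¬ 2 ∣ orderOf o) → o = 1 := by
      refine hkey _ (fun g o ho => ⟨(inferInstance : O.Normal).conj_mem o ho.1 g, ?_⟩)
        (fun o ho => ho.1) t htO fun o ho => ?_
      · rw [show orderOf (g * o * g⁻¹) = orderOf o from
          orderOf_injective (MulAut.conj g).toMonoidHom (MulAut.conj g).injective o]
        exact ho.2
      · have hcm : Commute t (⟨o, hOR ho.1⟩ : R) := by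
          refine Char.nilpotent_commute_of_coprime ?_
          rw [Subgroup.orderOf_mk]
          refine Nat.Coprime.coprime_dvd_left
            (orderOf_dvd_of_pow_eq_one hk') ?_
          rw [Subgroup.orderOf_mk]
          exact ((Nat.Prime.coprime_iff_not_dvd Nat.prime_two).2 ho.2).pow_left k
        exact congrArg Subtype.val hcm.eq
    intro o
    refine ⟨(orderOf (o : G)).factorization 2, Subtype.ext (hodd _ ⟨pow_mem o.2 _, ?_⟩)⟩
    show ¬ 2 ∣ orderOf ((o : G) ^ 2 ^ (orderOf (o : G)).factorization 2)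
    rw [orderOf_pow_of_dvd (by positivity) (Nat.ordProj_dvd _ _)]
    exact Nat.not_dvd_ordCompl Nat.prime_two (orderOf_pos _).ne'
  rcases hc with hc | hc
  · -- order sixty
    have hR2 : ∀ v : G, v ∈ R → v * v ∈ O := fun v hv => by
      rw [← QuotientGroup.eq_one_iff]
      show π (v * v) = 1
      rw [map_mul]; exact sq_eq_one_of_four hx' hR0 h4 hv
    have hcomm : ∀ a ∈ O, ∀ b ∈ O, Commute a b := by
      intro a ha b hb
      rw [← commutatorElement_eq_one_iff_commute]
      refine hkey (fun o => ∃ a ∈ O, ∃ b ∈ O, o = ⁅a, b⁆) ?_ ?_ t htO ?_ _ ⟨a, ha, b, hb, rfl⟩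
      · rintro g _ ⟨a, ha, b, hb, rfl⟩
        refine ⟨g * a * g⁻¹, (inferInstance : O.Normal).conj_mem a ha g, g * b * g⁻¹,
          (inferInstance : O.Normal).conj_mem b hb g, ?_⟩
        simp only [commutatorElement_def]; group
      · rintro _ ⟨a, ha, b, hb, rfl⟩
        rw [commutatorElement_def]
        exact mul_mem (mul_mem (mul_mem ha hb) (inv_mem ha)) (inv_mem hb)
      · rintro _ ⟨a, ha, b, hb, rfl⟩
        rw [commutatorElement_def]
        exact hR.commute_commutator h (hOR ha) (hOR hb) t.2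
    let H : Submonoid G :=
      { carrier := {g | ∀ o ∈ O, ⁅o, g⁆ * ⁅o, g⁆ = 1}
        one_mem' := fun o _ => by simp
        mul_mem' := fun {a b} ha hb o ho => by
          have hA : ∀ g : G, ⁅o, g⁆ ∈ O := fun g => by
            rw [commutatorElement_def, show o * g * o⁻¹ * g⁻¹ = o * (g * o⁻¹ * g⁻¹) by group]
            exact mul_mem ho ((inferInstance : O.Normal).conj_mem _ (inv_mem ho) g)
          have e : ⁅o, a * b⁆ = ⁅o, a⁆ * (a * ⁅o, b⁆ * a⁻¹) := by
            simp only [commutatorElement_def]; group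
          have hc' := hcomm _ (hA a) _ ((inferInstance : O.Normal).conj_mem _ (hA b) a)
          rw [e, hc'.symm.mul_mul_mul_comm, ha o ho, one_mul,
            show a * ⁅o, b⁆ * a⁻¹ * (a * ⁅o, b⁆ * a⁻¹) = a * (⁅o, b⁆ * ⁅o, b⁆) * a⁻¹ by group,
            hb o ho]
          group }
    let H' : Subgroup G :=
      { H with
        inv_mem' := fun {a} ha => by
          rw [inv_eq_of_mul_eq_one_right (show a * a ^ (orderOf a - 1) = 1 by
            rw [← pow_succ', Nat.sub_add_cancel (orderOf_pos a), pow_orderOf_eq_one])]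
          exact (pow_mem (show a ∈ H from ha) _ : a ^ (orderOf a - 1) ∈ H) }
    have hH : H'.Normal := ⟨fun a ha g o ho => by
      have e : ⁅o, g * a * g⁻¹⁆ = g * ⁅g⁻¹ * o * g, a⁆ * g⁻¹ := by
        simp only [commutatorElement_def]; group
      have ho' : g⁻¹ * o * g ∈ O := by
        simpa using (inferInstance : O.Normal).conj_mem o ho g⁻¹
      rw [e, show g * ⁅g⁻¹ * o * g, a⁆ * g⁻¹ * (g * ⁅g⁻¹ * o * g, a⁆ * g⁻¹)
        = g * (⁅g⁻¹ * o * g, a⁆ * ⁅g⁻¹ * o * g, a⁆) * g⁻¹ by group, ha _ ho']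
      group⟩
    have htH : (t : G) ∈ H' := fun o ho => by
      have hc1 : ⁅o, (t : G) * t⁆ = 1 :=
        commutatorElement_eq_one_iff_commute.2 (hcomm o ho _ (hR2 t t.2))
      have e : ⁅o, (t : G) * t⁆ = ⁅o, (t : G)⁆ * ((t : G) * ⁅o, (t : G)⁆ * (t : G)⁻¹) := by
        simp only [commutatorElement_def]; group
      have hc2 : Commute (t : G) ⁅o, (t : G)⁆ := by
        rw [commutatorElement_def]; exact hR.commute_commutator h (hOR ho) t.2 t.2
      rw [e, hc2.eq, mul_inv_cancel_right] at hc1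
      exact hc1
    have hxH : x ∈ H' := h.mem_of_normal hH fun hle => htO (hle htH)
    have hexp : ∀ o ∈ O, o ^ 2 = 1 := fun m hm => by
      obtain ⟨b, hb, rfl⟩ := hIO.exists_twist h hm
      have h1 := hxH b⁻¹ (inv_mem hb)
      rw [commutatorElement_def, inv_inv, show b⁻¹ * x * b * x⁻¹ = b⁻¹ * (x * b * x⁻¹) by group]
        at h1
      rwa [pow_two]
    exact Or.inr (Or.inr (Or.inl ⟨hsimp, hc, ⟨⟨fun a b => Subtype.ext (hcomm a a.2 b b.2).eq⟩⟩,
      hexp, hO2, R, hR, hne⟩))
  · -- order 168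
    haveI := hsimp
    haveI : Fact (Nat.Prime 7) := ⟨by norm_num⟩
    obtain ⟨V0, hV0, h7⟩ := seven_invariant hx' hna hc
    set V := V0.comap π with hVdef
    have hcV : Nat.card V = Nat.card O * 7 := h7 ▸ Cores.card_comap_mk_eq O V0
    have hV : Inv x V := by
      refine ⟨fun m hm => ?_, fun e3 => ?_⟩
      · show π (x * m * x⁻¹) ∈ V0
        rw [map_mul, map_mul, map_inv]; exact hV0.conj _ hm
      · rw [hcV] at e3
        rcases (Nat.Prime.dvd_mul Nat.prime_three).1 e3 with e' | e'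
        · exact hIO.ndvd e'
        · norm_num at e'
    haveI := hV.isNilpotent h
    obtain ⟨b, hb⟩ := exists_prime_orderOf_dvd_card' (G := V) 7 (hcV ▸ dvd_mul_left 7 _)
    obtain ⟨j, hj⟩ := IsPGroup.iff_card.1 hO2
    have hbO : (b : G) ∉ O := fun hbO => by
      have h1 := Subgroup.orderOf_dvd_natCard O hbO
      rw [Subgroup.orderOf_coe, hb, hj] at h1
      exact absurd ((Nat.prime_dvd_prime_iff_eq (by norm_num) Nat.prime_two).1
        (Nat.Prime.dvd_of_dvd_pow (by norm_num) h1)) (by norm_num)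
    have hbot : O = ⊥ := by
      refine (Subgroup.eq_bot_iff_forall _).2 fun o ho => hkey (· ∈ O)
        (fun g o ho => (inferInstance : O.Normal).conj_mem o ho g) (fun o ho => ho) b hbO
        (fun o ho => ?_) o ho
      have hoV : o ∈ V := by
        show π o ∈ V0
        rw [show π o = 1 from (QuotientGroup.eq_one_iff o).2 ho]; exact one_mem _
      have hcm : Commute b (⟨o, hoV⟩ : V) := by
        refine Char.nilpotent_commute_of_coprime ?_
        rw [hb, Subgroup.orderOf_mk]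
        have h1 := Subgroup.orderOf_dvd_natCard O ho
        rw [hj] at h1
        exact Nat.Coprime.coprime_dvd_right h1 (Nat.Coprime.pow_right j (by norm_num))
      exact congrArg Subtype.val hcm.eq
    have hcG : Nat.card G = 168 := by
      rw [hcard, hc, hbot, Subgroup.card_bot, one_mul]
    have hinj : Function.Injective π :=
      (MonoidHom.ker_eq_bot_iff π).1 (by rw [hπ, QuotientGroup.ker_mk', hbot])
    exact Or.inr (Or.inr (Or.inr ⟨hbot,
      (MulEquiv.ofBijective π ⟨hinj, hπs⟩).isSimpleGroup_congr.2 hsimp, hcG⟩))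

theorem out {G : Type u} [Group G] [Finite G] {x : G} (h : SC x) : Out x := out_all _ x rfl h

/-- A group of order six with such an element is the symmetric group. -/
theorem equiv_perm_three_of_card_six {Q : Type u} [Group Q] [Finite Q] {x : Q} (h : SC x)
    (hc : Nat.card Q = 6) : Nonempty (Q ≃* Equiv.Perm (Fin 3)) := by
  classical
  obtain ⟨t, ht⟩ := exists_prime_orderOf_dvd_card' (G := Q) 2 (by rw [hc]; norm_num)
  set T := zpowers t with hT
  have hidx : T.index = 3 := by
    have := Subgroup.card_mul_index T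
    rw [Nat.card_zpowers, ht, hc] at this
    omega
  haveI := Fintype.ofFinite (Q ⧸ T)
  let e : (Q ⧸ T) ≃ Fin 3 := Fintype.equivFinOfCardEq
    (by rw [← Nat.card_eq_fintype_card, ← Subgroup.index_eq_card, hidx])
  let φ : Q →* Equiv.Perm (Fin 3) :=
    (e.permCongrHom.toMonoidHom).comp (MulAction.toPermHom Q (Q ⧸ T))
  have hker : Function.Injective φ := by
    refine e.permCongrHom.injective.comp ?_
    rw [← MonoidHom.ker_eq_bot_iff, ← Subgroup.normalCore_eq_ker]
    by_contra hne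
    have hle := Subgroup.normalCore_le T
    have hd := Subgroup.card_dvd_of_le hle
    rw [Nat.card_zpowers, ht] at hd
    rcases (Nat.dvd_prime Nat.prime_two).1 hd with e1 | e1
    · exact hne (Subgroup.card_eq_one.1 e1)
    have heq : T.normalCore = T :=
      Subgroup.eq_of_le_of_card_ge hle (by rw [Nat.card_zpowers, ht, e1])
    have hn : T.Normal := heq ▸ T.normalCore_normal
    have hI : Inv x T := ⟨fun m hm => hn.conj_mem m hm x, by
      rw [Nat.card_zpowers, ht]; norm_num⟩
    have := hI.card_mod h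
    rw [Nat.card_zpowers, ht] at this
    omega
  refine ⟨MulEquiv.ofBijective φ ((Nat.bijective_iff_injective_and_card φ).2 ⟨hker, ?_⟩)⟩
  rw [hc, Nat.card_eq_fintype_card, Fintype.card_perm, Fintype.card_fin]
  rfl

end Cfsg.Agent.SelfCentThree
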