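import Cfsg.Agent.SelfCentThree.Fpf
import Cfsg.Agent.Cores.Basic

/-!
# A self-centralising element of order three
-/

set_option autoImplicit false

namespace Cfsg.Agent.SelfCentThree

open Subgroup
open scoped Pointwise

variable {G : Type*} [Group G]

/-- `x` has order three and generates its own centraliser. -/
structure SC (x : G) : Prop where
  order : orderOf x = 3
  cent : ∀ g, Commute g x → g ∈ zpowers x

/-- An `x`-invariant subgroup of order prime to three. -/
structure Inv (x : G) (M : Subgroup G) : Prop where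
  conj : ∀ m ∈ M, x * m * x⁻¹ ∈ M
  ndvd : ¬ 3 ∣ Nat.card M

variable {x : G}

theorem SC.cube (h : SC x) : x * x * x = 1 := by
  rw [← pow_two, ← pow_succ, show 2 + 1 = orderOf x from h.order.symm, pow_orderOf_eq_one]

theorem SC.ne_one (h : SC x) : x ≠ 1 := fun e => by
  have := h.order
  rw [e, orderOf_one] at this
  omega

theorem SC.inv_eq (h : SC x) : x⁻¹ = x * x := inv_eq_of_mul_eq_one_left h.cube

theorem SC.inv_ne (h : SC x) : x⁻¹ ≠ x := fun e => h.ne_one (by
  have h2 : x * x = 1 := by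
    nth_rw 1 [← e]
    exact inv_mul_cancel x
  simpa [h2] using h.cube)

theorem SC.mem_zpowers_cases (h : SC x) {g : G} (hg : g ∈ zpowers x) :
    g = 1 ∨ g = x ∨ g = x⁻¹ := by
  obtain ⟨k, rfl⟩ := hg
  simp only
  rw [← zpow_mod_orderOf, h.order]
  have h1 := Int.emod_nonneg k (b := ((3 : ℕ) : ℤ)) (by norm_num)
  have h2 := Int.emod_lt_of_pos k (b := ((3 : ℕ) : ℤ)) (by norm_num)
  obtain ⟨r, hr⟩ : ∃ r : ℕ, k % ((3 : ℕ) : ℤ) = r := ⟨(k % ((3 : ℕ) : ℤ)).toNat, (Int.toNat_of_nonneg h1).symm⟩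
  rw [hr, zpow_natCast]
  have : r < 3 := by omega
  interval_cases r
  · exact Or.inl (pow_zero x)
  · exact Or.inr (Or.inl (pow_one x))
  · exact Or.inr (Or.inr (by rw [h.inv_eq, pow_two]))

theorem SC.centralizer_eq (h : SC x) : centralizer ({x} : Set G) = zpowers x :=
  le_antisymm (fun g hg => h.cent g (mem_centralizer_singleton_iff.1 hg))
    (zpowers_le.2 (mem_centralizer_singleton_iff.2 rfl))

theorem SC.card_centralizer (h : SC x) : Nat.card (centralizer ({x} : Set G)) = 3 := by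
  rw [h.centralizer_eq, Nat.card_zpowers, h.order]

theorem SC.inv (h : SC x) : SC x⁻¹ :=
  ⟨by rw [orderOf_inv, h.order], fun g hg => by
    rw [zpowers_inv]; exact h.cent g (by simpa using hg.inv_right)⟩

theorem SC.conj (h : SC x) (g : G) : SC (g * x * g⁻¹) := by
  refine ⟨?_, fun y hy => ?_⟩
  · simpa using (orderOf_injective (MulAut.conj g).toMonoidHom (MulAut.conj g).injective x).trans
      h.order
  · have h1 := (Commute.conj_iff g⁻¹).2 hy
    rw [show g⁻¹ * (g * x * g⁻¹) * g⁻¹⁻¹ = x by group] at h1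
    obtain ⟨k, hk⟩ := h.cent _ h1
    refine ⟨k, ?_⟩
    simp only at hk ⊢
    rw [conj_zpow, hk]
    group

theorem SC.subgroup (h : SC x) {K : Subgroup G} (hx : x ∈ K) : SC (⟨x, hx⟩ : K) := by
  refine ⟨by rw [Subgroup.orderOf_mk]; exact h.order, fun g hg => ?_⟩
  obtain ⟨k, hk⟩ := h.cent g (congrArg Subtype.val hg :)
  exact ⟨k, Subtype.ext (by simpa using hk)⟩

variable [Finite G]

theorem SC.three_dvd (h : SC x) : 3 ∣ Nat.card G := h.order ▸ orderOf_dvd_natCard x

theorem SC.not_nine (h : SC x) : ¬ 9 ∣ Nat.card G := by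
  haveI : Fact (Nat.Prime 3) := ⟨Nat.prime_three⟩
  intro h9
  have hp : IsPGroup 3 (zpowers x) := IsPGroup.of_card (n := 1) (by rw [Nat.card_zpowers, h.order, pow_one])
  obtain ⟨P, hP⟩ := hp.exists_le_sylow
  have hxP : x ∈ (P : Subgroup G) := hP (mem_zpowers x)
  haveI : Nontrivial (P : Subgroup G) := ⟨⟨⟨x, hxP⟩, 1, fun e => h.ne_one (congrArg Subtype.val e :)⟩⟩
  haveI := P.2.center_nontrivial
  obtain ⟨z, hz⟩ := exists_ne (1 : center (P : Subgroup G))
  have hz1 : ((z : (P : Subgroup G)) : G) ≠ 1 := fun e => hz (Subtype.ext (Subtype.ext e))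
  have hzc : ∀ p : (P : Subgroup G), Commute ((z : (P : Subgroup G)) : G) (p : G) := fun p =>
    (congrArg Subtype.val (mem_center_iff.1 z.2 p) :).symm
  have hall : ∀ p : (P : Subgroup G), Commute (p : G) x := fun p => by
    rcases h.mem_zpowers_cases (h.cent _ (hzc ⟨x, hxP⟩)) with e | e | e
    · exact absurd e hz1
    · rw [← e]; exact (hzc p).symm
    · have := (hzc p).symm
      rw [e] at this
      simpa using this.inv_right
  have hle : (P : Subgroup G) ≤ zpowers x := fun a ha => h.cent a (hall ⟨a, ha⟩)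
  have h1 := Subgroup.card_le_of_le hle
  rw [Nat.card_zpowers, h.order, P.card_eq_multiplicity] at h1
  have h2 : 2 ≤ (Nat.card G).factorization 3 :=
    (Nat.Prime.pow_dvd_iff_le_factorization Nat.prime_three Nat.card_pos.ne').1 (by norm_num; exact h9)
  have : 3 ^ 2 ≤ 3 ^ (Nat.card G).factorization 3 := Nat.pow_le_pow_right (by norm_num) h2
  omega

theorem SC.exists_conj (h : SC x) {y : G} (hy : orderOf y = 3) :
    ∃ g : G, g * x * g⁻¹ = y ∨ g * x⁻¹ * g⁻¹ = y := by
  haveI : Fact (Nat.Prime 3) := ⟨Nat.prime_three⟩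
  have hf : (Nat.card G).factorization 3 = 1 := by
    have h1 := (Nat.Prime.pow_dvd_iff_le_factorization Nat.prime_three Nat.card_pos.ne' (k := 1)).1
      (by rw [pow_one]; exact h.three_dvd)
    by_contra hne
    exact h.not_nine ((Nat.Prime.pow_dvd_iff_le_factorization Nat.prime_three Nat.card_pos.ne'
      (k := 2)).2 (by omega))
  let P : Sylow 3 G := Sylow.ofCard (zpowers x) (by rw [Nat.card_zpowers, h.order, hf, pow_one])
  obtain ⟨Q, hQ⟩ := (IsPGroup.of_card (n := 1) (by rw [Nat.card_zpowers, hy, pow_one]) :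
    IsPGroup 3 (zpowers y)).exists_le_sylow
  obtain ⟨g, rfl⟩ := MulAction.exists_smul_eq G P Q
  have hyg : g⁻¹ * y * g ∈ zpowers x := by
    have h1 : y ∈ MulAut.conj g • (P : Subgroup G) := hQ (mem_zpowers y)
    rw [Subgroup.mem_pointwise_smul_iff_inv_smul_mem] at h1
    simpa [P, mul_assoc] using h1
  refine ⟨g, ?_⟩
  rcases h.mem_zpowers_cases hyg with e | e | e
  · exfalso
    have : y = 1 := by
      calc y = g * (g⁻¹ * y * g) * g⁻¹ := by group
        _ = 1 := by rw [e]; group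
    rw [this, orderOf_one] at hy
    omega
  · left; rw [← e]; group
  · right; rw [← e]; group

theorem SC.of_order (h : SC x) {y : G} (hy : orderOf y = 3) : SC y := by
  obtain ⟨g, rfl | rfl⟩ := h.exists_conj hy
  · exact h.conj g
  · exact h.inv.conj g

omit [Finite G] in
theorem Inv.conj_inv (h : SC x) {M : Subgroup G} (hI : Inv x M) {m : G} (hm : m ∈ M) :
    x⁻¹ * m * x⁻¹⁻¹ ∈ M := by
  rw [h.inv_eq]
  simpa [mul_assoc] using hI.conj _ (hI.conj m hm)

theorem Inv.eq_one (h : SC x) {M : Subgroup G} (hI : Inv x M) {m : G} (hm : m ∈ M)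
    (hc : Commute m x) : m = 1 := by
  by_contra hne
  refine hI.ndvd ?_
  have h3 : orderOf m = 3 := by
    rcases h.mem_zpowers_cases (h.cent m hc) with e | e | e
    · exact absurd e hne
    · rw [e, h.order]
    · rw [e, orderOf_inv, h.order]
  exact h3 ▸ Subgroup.orderOf_dvd_natCard M hm

/-- Conjugation by `x` on an invariant subgroup. -/
def Inv.rho {M : Subgroup G} (hI : Inv x M) (h : SC x) : MulAut M where
  toFun m := ⟨x * m * x⁻¹, hI.conj m m.2⟩
  invFun m := ⟨x⁻¹ * m * x⁻¹⁻¹, hI.conj_inv h m.2⟩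
  left_inv m := Subtype.ext (by group)
  right_inv m := Subtype.ext (by group)
  map_mul' a b := Subtype.ext (by simp [mul_assoc])

theorem Inv.fpf (h : SC x) {M : Subgroup G} (hI : Inv x M) : TwoAut.FpfThree (hI.rho h) := by
  refine ⟨fun m => Subtype.ext ?_, fun m hm => Subtype.ext (hI.eq_one h m.2 ?_)⟩
  · show x * (x * (x * (m : G) * x⁻¹) * x⁻¹) * x⁻¹ = m
    calc x * (x * (x * (m : G) * x⁻¹) * x⁻¹) * x⁻¹ = (x * x * x) * m * (x * x * x)⁻¹ := by group
      _ = m := by rw [h.cube]; simp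
  · exact (mul_inv_eq_iff_eq_mul.1 (congrArg Subtype.val hm :)).symm

theorem Inv.card_mod (h : SC x) {M : Subgroup G} (hI : Inv x M) : Nat.card M % 3 = 1 := by
  have := (hI.fpf h).card_mod_three ⊤ fun _ _ => Subgroup.mem_top _
  rwa [Subgroup.card_top] at this

theorem Inv.isNilpotent (h : SC x) {M : Subgroup G} (hI : Inv x M) : Group.IsNilpotent M :=
  isNilpotent_of_fpfThree (hI.fpf h)

theorem Inv.commute_self_conj (h : SC x) {M : Subgroup G} (hI : Inv x M) {m : G} (hm : m ∈ M) :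
    Commute m (x * m * x⁻¹) :=
  (congrArg Subtype.val ((hI.fpf h).commute ⟨m, hm⟩).eq :)

theorem Inv.mul_conj_mul (h : SC x) {M : Subgroup G} (hI : Inv x M) {m : G} (hm : m ∈ M) :
    m * (x * m * x⁻¹) * (x * (x * m * x⁻¹) * x⁻¹) = 1 :=
  (congrArg Subtype.val ((hI.fpf h).mul_eq_one ⟨m, hm⟩) :)

theorem Inv.exists_twist (h : SC x) {M : Subgroup G} (hI : Inv x M) {m : G} (hm : m ∈ M) :
    ∃ k ∈ M, k⁻¹ * (x * k * x⁻¹) = m := by
  obtain ⟨k, hk⟩ := (hI.fpf h).exists_eq_inv_mul (hI.rho h) (hI.fpf h).fpf ⟨m, hm⟩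
  exact ⟨k, k.2, congrArg Subtype.val hk⟩

omit [Finite G] in
theorem Inv.of_normal (x : G) {N : Subgroup G} (hN : N.Normal) (h3 : ¬ 3 ∣ Nat.card N) : Inv x N :=
  ⟨fun m hm => hN.conj_mem m hm x, h3⟩

theorem inv_core (x : G) : Inv x (pPrimeCore 3 G) :=
  haveI : Fact (Nat.Prime 3) := ⟨Nat.prime_three⟩
  Inv.of_normal x inferInstance Cores.not_dvd_card_pPrimeCore

theorem SC.mem_of_normal (h : SC x) {H : Subgroup G} (hH : H.Normal)
    (hne : ¬ H ≤ pPrimeCore 3 G) : x ∈ H := by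
  haveI : Fact (Nat.Prime 3) := ⟨Nat.prime_three⟩
  have h3 : 3 ∣ Nat.card H := by
    by_contra h3
    exact hne (Cores.le_pPrimeCore_of_not_dvd hH h3)
  obtain ⟨⟨y, hy⟩, hy3⟩ := exists_prime_orderOf_dvd_card' (G := H) 3 h3
  rw [Subgroup.orderOf_mk] at hy3
  obtain ⟨g, rfl | rfl⟩ := h.exists_conj hy3
  · simpa [mul_assoc] using hH.conj_mem _ hy g⁻¹
  · simpa [mul_assoc] using H.inv_mem (hH.conj_mem _ hy g⁻¹)

theorem SC.quotient (h : SC x) (N : Subgroup G) [N.Normal] (h3 : ¬ 3 ∣ Nat.card N) :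
    SC (QuotientGroup.mk' N x) := by
  have hI : Inv x N := Inv.of_normal x inferInstance h3
  have hne : QuotientGroup.mk' N x ≠ 1 := fun e => h3 (by
    have hx : x ∈ N := (QuotientGroup.eq_one_iff x).1 e
    exact h.order ▸ Subgroup.orderOf_dvd_natCard N hx)
  haveI : Fact (Nat.Prime 3) := ⟨Nat.prime_three⟩
  refine ⟨orderOf_eq_prime (by rw [← map_pow, ← h.order, pow_orderOf_eq_one, map_one]) hne,
    fun q hq => ?_⟩
  obtain ⟨y, rfl⟩ := QuotientGroup.mk'_surjective N q
  have hmem : (y * x * y⁻¹) * x⁻¹ ∈ N := by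
    rw [← QuotientGroup.eq_one_iff]
    show QuotientGroup.mk' N (y * x * y⁻¹ * x⁻¹) = 1
    rw [map_mul, map_mul, map_mul, map_inv, map_inv, hq.eq]
    group
  obtain ⟨k, hk, hke⟩ := hI.exists_twist h hmem
  have hc : Commute (k * y) x := by
    show k * y * x = x * (k * y)
    calc k * y * x = k * (y * x * y⁻¹ * x⁻¹) * x * y := by group
      _ = x * (k * y) := by rw [← hke]; group
  obtain ⟨i, hi⟩ := h.cent _ hc
  refine ⟨i, ?_⟩
  simp only at hi ⊢
  rw [← map_zpow, hi, map_mul, show QuotientGroup.mk' N k = 1 from (QuotientGroup.eq_one_iff k).2 hk,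
    one_mul]

theorem SC.normalizer_cases (h : SC x) {g : G}
    (hg : g * x * g⁻¹ ∈ zpowers x) : g * x * g⁻¹ = x ∨ g * x * g⁻¹ = x⁻¹ := by
  rcases h.mem_zpowers_cases hg with e | e | e
  · exact absurd (conj_eq_one_iff.1 e) h.ne_one
  · exact Or.inl e
  · exact Or.inr e

end Cfsg.Agent.SelfCentThree
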