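import Cfsg.Agent.SelfCentThree.Basic
import Cfsg.Agent.Brauer.CharBasics
import Cfsg.Agent.Char.Orthogonality
import Cfsg.Agent.Char.Integrality

/-!
# Products of two conjugates of a real self-centralising element of order three

Only three irreducible characters are nonzero at `x`, with values `±1`; so more than a ninth of
`|G|` many conjugates `u` of `x` have `u x` conjugate to `x`.
-/

set_option autoImplicit false

namespace Cfsg.Agent.SelfCentThree

open Cfsg Subgroup
open scoped ComplexConjugate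

variable {G : Type*} [Group G] [Finite G] {x : G}

theorem exists_int_value (h : SC x) (hreal : IsConj x x⁻¹) {χ : G → ℂ} (hχ : IsCharacter G χ) :
    ∃ t : ℤ, χ x = t := by
  obtain ⟨n, ρ, rfl⟩ := hχ
  have hint := Char.character_isIntegral ρ x
  have hconj : ρ.character x = conj (ρ.character x) := by
    rw [← Char.character_inv]
    obtain ⟨g, hg⟩ := isConj_iff.1 hreal
    rw [← hg]
    exact (ρ.char_conj x g).symm
  obtain ⟨b, ε, hb, hε⟩ := Char.exists_eigenbasis ρ x
  have hch : ρ.character x = ∑ i, ε i := by simpa using Char.character_pow_eq_sum ρ hb 1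
  classical
  let e : Fin _ → ℤ := fun i => if ε i = 1 then 2 else -1
  have he : ∀ i, ε i + conj (ε i) = (e i : ℂ) := by
    intro i
    have h3 : ε i ^ 3 = 1 := h.order ▸ hε i
    by_cases h1 : ε i = 1
    · simp only [e, h1, if_true, map_one]; norm_num
    · have h2 : ε i ^ 2 + ε i + 1 = 0 := by
        have : (ε i - 1) * (ε i ^ 2 + ε i + 1) = 0 := by linear_combination h3
        exact (mul_eq_zero.1 this).resolve_left (sub_ne_zero.2 h1)
      have hc : conj (ε i) = ε i ^ 2 := by
        have hn : ‖ε i‖ = 1 := Complex.norm_eq_one_of_pow_eq_one h3 (by norm_num)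
        rw [← Complex.inv_eq_conj hn]
        exact inv_eq_of_mul_eq_one_right (by linear_combination h3)
      simp only [e, h1, if_false, hc]
      push_cast
      linear_combination h2
  have h2 : 2 * ρ.character x = ((∑ i, e i : ℤ) : ℂ) := by
    rw [two_mul]
    nth_rw 2 [hconj]
    rw [hch, map_sum, ← Finset.sum_add_distrib, Finset.sum_congr rfl fun i _ => he i]
    push_cast
    rfl
  have hq : ρ.character x = (((∑ i, e i : ℤ) : ℚ) / 2 : ℚ) := by
    push_cast
    push_cast at h2
    linear_combination h2 / 2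
  rw [hq] at hint ⊢
  obtain ⟨z, hz⟩ := Char.exists_int_of_isIntegral_rat hint
  exact ⟨z, by rw [hz]; push_cast; rfl⟩

theorem card_lt_nine_mul (h : SC x) (hreal : IsConj x x⁻¹) :
    Nat.card G < 9 * Nat.card {u : G // IsConj x u ∧ IsConj x (u * x)} := by
  classical
  haveI := Fintype.ofFinite G
  choose t ht using fun χ : IrrCharacter G => exists_int_value h hreal (Char.isCharacter_of_irr χ.2)
  choose d hd using fun χ : IrrCharacter G => Char.isCharacter_one_nat (Char.isCharacter_of_irr χ.2)
  have hd1 : ∀ χ, 1 ≤ d χ := fun χ => Nat.one_le_iff_ne_zero.2 fun e =>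
    Char.irr_one_ne_zero χ.2 (by rw [hd χ, e, Nat.cast_zero])
  -- column orthogonality
  have hsq : ∑ χ : IrrCharacter G, t χ ^ 2 = 3 := by
    have h1 := Char.sum_irr_mul_conj x x
    rw [if_pos (IsConj.refl x), h.card_centralizer] at h1
    simp only [ht, map_intCast] at h1
    exact_mod_cast (by rw [Int.cast_sum]; simpa [pow_two] using h1 :
      ((∑ χ : IrrCharacter G, t χ ^ 2 : ℤ) : ℂ) = (3 : ℤ))
  have hlin : ∑ χ : IrrCharacter G, t χ * (d χ : ℤ) = 0 := by
    have h1 := Char.sum_irr_mul_conj x 1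
    rw [if_neg fun e => h.ne_one (isConj_one_left.1 e)] at h1
    simp only [ht, hd, Complex.conj_natCast] at h1
    exact_mod_cast (by rw [Int.cast_sum]; simpa using h1 :
      ((∑ χ : IrrCharacter G, t χ * (d χ : ℤ) : ℤ) : ℂ) = (0 : ℤ))
  set χ0 : IrrCharacter G := Char.trivialIrr G with hχ0
  have ht0 : t χ0 = 1 := by
    have := ht χ0
    rw [show ((χ0 : IrrCharacter G) : G → ℂ) x = 1 from rfl] at this
    exact_mod_cast this.symm
  have hd0 : d χ0 = 1 := by
    have := hd χ0
    rw [show ((χ0 : IrrCharacter G) : G → ℂ) 1 = 1 from rfl] at this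
    exact_mod_cast this.symm
  -- the sum of cubes over degrees exceeds one
  have hA : (1 : ℚ) < ∑ χ : IrrCharacter G, (t χ : ℚ) ^ 3 / d χ := by
    set S := Finset.univ.filter fun χ : IrrCharacter G => t χ ≠ 0 ∧ χ ≠ χ0 with hS
    have hmem : χ0 ∉ S := by simp [hS]
    have hsplit : ∀ (f : IrrCharacter G → ℚ), (∀ χ, t χ = 0 → f χ = 0) →
        ∑ χ, f χ = f χ0 + ∑ χ ∈ S, f χ := by
      intro f hf
      rw [← Finset.sum_insert hmem]
      refine (Finset.sum_subset (Finset.subset_univ _) fun χ _ hχ => hf χ ?_).symm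
      by_contra hne
      refine hχ (Finset.mem_insert.2 ?_)
      by_cases he : χ = χ0
      · exact Or.inl he
      · exact Or.inr (Finset.mem_filter.2 ⟨Finset.mem_univ _, hne, he⟩)
    have hsq' := hsplit (fun χ => (t χ : ℚ) ^ 2) fun χ e => by simp [e]
    have hlin' := hsplit (fun χ => (t χ : ℚ) * d χ) fun χ e => by simp [e]
    rw [show ∑ χ : IrrCharacter G, (t χ : ℚ) ^ 2 = 3 by exact_mod_cast hsq, ht0] at hsq'
    rw [show ∑ χ : IrrCharacter G, (t χ : ℚ) * d χ = 0 by exact_mod_cast hlin, ht0, hd0] at hlin'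
    rw [hsplit (fun χ => (t χ : ℚ) ^ 3 / d χ) fun χ e => by simp [e], ht0, hd0]
    push_cast at hsq' hlin'
    have hone : ∀ χ ∈ S, t χ = 1 ∨ t χ = -1 := by
      intro χ hχ
      obtain ⟨-, hne, -⟩ := Finset.mem_filter.1 hχ
      have hle : (t χ : ℚ) ^ 2 ≤ 2 := by
        have := Finset.single_le_sum (f := fun χ => (t χ : ℚ) ^ 2) (fun i _ => sq_nonneg _) hχ
        linarith
      have hle' : t χ ^ 2 ≤ 2 := by exact_mod_cast hle
      have h1 : t χ ≤ 1 := by nlinarith
      have h2 : -1 ≤ t χ := by nlinarith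
      omega
    have hcard : S.card = 2 := by
      have e : ∑ χ ∈ S, (t χ : ℚ) ^ 2 = (S.card : ℚ) := by
        rw [Finset.sum_congr rfl fun χ hχ => show (t χ : ℚ) ^ 2 = 1 by
          rcases hone χ hχ with e | e <;> rw [e] <;> norm_num]
        simp
      have : (S.card : ℚ) = 2 := by linarith
      exact_mod_cast this
    obtain ⟨α, β, hne, hSeq⟩ := Finset.card_eq_two.1 hcard
    rw [hSeq, Finset.sum_pair hne] at hlin' ⊢
    have ha : (1 : ℚ) ≤ d α := by exact_mod_cast hd1 α
    have hb : (1 : ℚ) ≤ d β := by exact_mod_cast hd1 β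
    rcases hone α (by rw [hSeq]; simp) with e | e <;>
      rcases hone β (by rw [hSeq]; simp) with e' | e' <;> rw [e, e'] at hlin' ⊢ <;>
      push_cast at hlin' ⊢ <;> norm_num
    · linarith
    · rw [show (d β : ℚ) = d α + 1 by linarith, neg_div, ← sub_eq_add_neg, sub_pos]
      rw [← one_div]
      apply div_lt_div_of_pos_left <;> linarith
    · rw [show (d α : ℚ) = d β + 1 by linarith, neg_div, neg_add_eq_sub, sub_pos]
      rw [← one_div]
      apply div_lt_div_of_pos_left <;> linarith
    · linarith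
  -- the class sum formula
  set Y := Finset.univ.filter fun y : G => IsConj (y * x * y⁻¹ * x) x with hY
  have hsum : ((Y.card * 3 : ℕ) : ℚ) = Nat.card G * ∑ χ : IrrCharacter G, (t χ : ℚ) ^ 3 / d χ := by
    have h1 : ∀ χ : IrrCharacter G, ∑ y : G, (χ : G → ℂ) (y * x * y⁻¹ * x) * conj ((χ : G → ℂ) x)
        = (Nat.card G : ℂ) * ((t χ : ℂ) ^ 3 / (d χ : ℂ)) := by
      intro χ
      rw [← Finset.sum_mul, Brauer.irr_conj_sum' χ.2 x x, ht, hd, map_intCast]
      ring
    have h2 : ((Y.card * 3 : ℕ) : ℂ) = ∑ χ : IrrCharacter G, ∑ y : G,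
        (χ : G → ℂ) (y * x * y⁻¹ * x) * conj ((χ : G → ℂ) x) := by
      rw [Finset.sum_comm, Finset.sum_congr rfl fun y _ => Char.sum_irr_mul_conj _ x,
        Finset.sum_congr rfl (g := fun y => if IsConj (y * x * y⁻¹ * x) x then (3 : ℂ) else 0)
          fun y _ => ?_, ← Finset.sum_filter, ← hY, Finset.sum_const, nsmul_eq_mul]
      · push_cast; rfl
      · split_ifs with hy
        · obtain ⟨g, hg⟩ := isConj_iff.1 hy.symm
          rw [← hg, (h.conj g).card_centralizer]
          norm_num
        · rfl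
    rw [Finset.sum_congr rfl fun χ _ => h1 χ, ← Finset.mul_sum] at h2
    exact_mod_cast h2
  -- the fibres of `y ↦ y x y⁻¹` have three elements
  have hfib : Y.card ≤ 3 * Nat.card {u : G // IsConj x u ∧ IsConj x (u * x)} := by
    rw [Nat.card_eq_fintype_card, Fintype.card_subtype]
    refine Finset.card_le_mul_card_image_of_maps_to (f := fun y : G => y * x * y⁻¹) ?_ 3 ?_
    · intro y hy
      exact Finset.mem_filter.2 ⟨Finset.mem_univ _, isConj_iff.2 ⟨y, rfl⟩,
        (Finset.mem_filter.1 hy).2.symm⟩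
    · intro u _
      by_cases hu : ∃ y0, y0 * x * y0⁻¹ = u
      · obtain ⟨y0, rfl⟩ := hu
        calc _ ≤ ((zpowers x : Set G).toFinite.toFinset.image fun k => y0 * k).card := by
              refine Finset.card_le_card fun y hy => ?_
              have e := (Finset.mem_filter.1 hy).2
              refine Finset.mem_image.2 ⟨y0⁻¹ * y, ?_, mul_inv_cancel_left _ _⟩
              rw [Set.Finite.mem_toFinset, SetLike.mem_coe]
              refine h.cent _ ?_
              show y0⁻¹ * y * x = x * (y0⁻¹ * y)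
              calc y0⁻¹ * y * x = y0⁻¹ * (y * x * y⁻¹) * y := by group
                _ = x * (y0⁻¹ * y) := by rw [e]; group
          _ ≤ _ := Finset.card_image_le
          _ = 3 := by rw [← Set.ncard_eq_toFinset_card, ← Nat.card_coe_set_eq]; exact
                (Nat.card_zpowers x).trans h.order
      · rw [Finset.card_eq_zero.2 (Finset.filter_eq_empty_iff.2 fun y _ e => hu ⟨y, e⟩)]
        exact Nat.zero_le _
  have hg : (0 : ℚ) < Nat.card G := by exact_mod_cast Nat.card_pos
  have hlt : (Nat.card G : ℚ) < ((Y.card * 3 : ℕ) : ℚ) := by rw [hsum]; nlinarith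
  have hlt' : Nat.card G < Y.card * 3 := by exact_mod_cast hlt
  omega

end Cfsg.Agent.SelfCentThree
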