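import Cfsg.Agent.TwoAut.FpfThree
import Mathlib.GroupTheory.Nilpotent

/-!
# Groups with a fixed-point-free automorphism of order three

Every element commutes with all its conjugates; so the group is nilpotent, and a 2-group of this
kind has class at most two.
-/

set_option autoImplicit false

namespace Cfsg.Agent.SelfCentThree

open Cfsg.Agent.TwoAut Subgroup

universe u

variable {T : Type u} [Group T] [Finite T] {ρ : MulAut T}

/-- Every element commutes with all its conjugates. -/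
theorem commute_conj (h : FpfThree ρ) (m n : T) : Commute m (n * m * n⁻¹) := by
  classical
  have key : ∀ m' k : T, Commute m' (k * ρ m' * k⁻¹) := by
    intro m' k
    obtain ⟨b, hb⟩ := h.exists_eq_inv_mul ρ h.fpf k
    have h1' := h.commute (b * m' * b⁻¹)
    have h2' := (Commute.conj_iff b⁻¹).2 h1'
    rw [map_mul, map_mul, map_inv] at h2'
    rwa [show b⁻¹ * (b * m' * b⁻¹) * b⁻¹⁻¹ = m' by group,
      show b⁻¹ * (ρ b * ρ m' * (ρ b)⁻¹) * b⁻¹⁻¹ = (b⁻¹ * ρ b) * ρ m' * (b⁻¹ * ρ b)⁻¹ by group,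
      hb] at h2'
  have h3 := h.mul_eq_one m
  rw [mul_assoc, mul_eq_one_iff_eq_inv] at h3
  have hc1 : Commute m (n * ρ m * n⁻¹) := key m n
  have hc2 : Commute m (n * ρ (ρ m) * n⁻¹) := by
    have h4 := key (ρ (ρ m)) n⁻¹
    rw [h.cube, inv_inv] at h4
    have h5 := (Commute.conj_iff n).2 h4
    rw [show n * (n⁻¹ * m * n) * n⁻¹ = m by group] at h5
    exact h5.symm
  have e : n * m * n⁻¹ = ((n * ρ m * n⁻¹) * (n * ρ (ρ m) * n⁻¹))⁻¹ := by
    conv_lhs => rw [h3]
    group
  rw [e]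
  exact (hc1.mul_right hc2).inv_right

omit [Finite T] in
theorem mem_normalClosure_commute (hc : ∀ a b : T, Commute a (b * a * b⁻¹)) {a p q : T}
    (hp : p ∈ normalClosure ({a} : Set T)) (hq : q ∈ normalClosure ({a} : Set T)) :
    Commute p q := by
  have hgen : ∀ r ∈ Group.conjugatesOfSet ({a} : Set T), ∀ s ∈ Group.conjugatesOfSet ({a} : Set T),
      r * s = s * r := by
    intro r hr s hs
    obtain ⟨a', ha', hr'⟩ := Group.mem_conjugatesOfSet_iff.1 hr
    obtain ⟨a'', ha'', hs'⟩ := Group.mem_conjugatesOfSet_iff.1 hs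
    rw [Set.mem_singleton_iff] at ha' ha''
    rw [ha'] at hr'
    rw [ha''] at hs'
    obtain ⟨g, rfl⟩ := isConj_iff.1 hr'
    obtain ⟨k, rfl⟩ := isConj_iff.1 hs'
    have := (Commute.conj_iff g).2 (hc a (g⁻¹ * k))
    rwa [show g * (g⁻¹ * k * a * (g⁻¹ * k)⁻¹) * g⁻¹ = k * a * k⁻¹ by group] at this
  exact congrArg Subtype.val
    ((Subgroup.isMulCommutative_closure hgen).is_comm.comm ⟨p, hp⟩ ⟨q, hq⟩)

/-- A finite group in which every element commutes with its conjugates is nilpotent. -/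
theorem isNilpotent_of_commute_conj (hc : ∀ a b : T, Commute a (b * a * b⁻¹)) :
    Group.IsNilpotent T := by
  refine ((Group.isNilpotent_of_finite_tfae (G := T)).out 3 0).1 ?_
  intro p hp P
  have key : ∀ a ∈ (P : Subgroup T), ∀ g : T, g * a * g⁻¹ ∈ (P : Subgroup T) := by
    intro a ha g
    obtain ⟨k, hk⟩ := P.2 ⟨a, ha⟩
    have hk' : a ^ p ^ k = 1 := congrArg Subtype.val hk
    have hN : IsPGroup p (normalClosure ({a} : Set T)) := by
      intro ⟨q, hq⟩
      refine ⟨k, Subtype.ext ?_⟩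
      show q ^ p ^ k = 1
      induction hq using Subgroup.closure_induction with
      | mem r hr =>
        obtain ⟨_, rfl, hr'⟩ := Group.mem_conjugatesOfSet_iff.1 hr
        obtain ⟨c, rfl⟩ := isConj_iff.1 hr'
        rw [conj_pow, hk']
        group
      | one => exact one_pow _
      | mul r s hr hs ihr ihs =>
        rw [(mem_normalClosure_commute hc hr hs).mul_pow, ihr, ihs, one_mul]
      | inv r _ ihr => rw [inv_pow, ihr, inv_one]
    haveI : Fact p.Prime := ⟨hp.out⟩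
    have hle : normalClosure ({a} : Set T) ≤ (P : Subgroup T) := by
      rw [← P.is_maximal' (hN.to_sup_of_normal_left P.2) le_sup_right]
      exact le_sup_left
    exact hle (normalClosure_normal.conj_mem a (subset_normalClosure (Set.mem_singleton a)) g)
  exact ⟨key⟩

theorem isNilpotent_of_fpfThree (h : FpfThree ρ) : Group.IsNilpotent T :=
  isNilpotent_of_commute_conj (commute_conj h)

omit [Finite T] in
open scoped commutatorElement in
/-- In a group in which every element commutes with its conjugates, double commutators have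
order dividing three. -/
theorem commutator_cube (hc : ∀ a b : T, Commute a (b * a * b⁻¹)) (a b c : T) :
    ⁅c, ⁅a, b⁆⁆ ^ 3 = 1 := by
  have hcomm : ∀ {r p q : T}, p ∈ normalClosure ({r} : Set T) → q ∈ normalClosure ({r} : Set T) →
      Commute p q := fun hp hq => mem_normalClosure_commute hc hp hq
  have hN : ∀ r : T, (normalClosure ({r} : Set T)).Normal := fun r => normalClosure_normal
  have hself : ∀ r : T, r ∈ normalClosure ({r} : Set T) := fun r => subset_normalClosure rfl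
  have hL : ∀ r s : T, ⁅r, s⁆ ∈ normalClosure ({r} : Set T) := fun r s => by
    rw [commutatorElement_def, show r * s * r⁻¹ * s⁻¹ = r * (s * r⁻¹ * s⁻¹) by group]
    exact mul_mem (hself r) ((hN r).conj_mem _ (inv_mem (hself r)) s)
  have hR : ∀ r s : T, ⁅r, s⁆ ∈ normalClosure ({s} : Set T) := fun r s => by
    rw [commutatorElement_def]
    exact mul_mem ((hN s).conj_mem _ (hself s) r) (inv_mem (hself s))
  have hinvR : ∀ r s : T, ⁅r, s⁻¹⁆ = ⁅r, s⁆⁻¹ := fun r s => by
    have h1 : ⁅r, s⁻¹⁆ = s⁻¹ * ⁅r, s⁆⁻¹ * s⁻¹⁻¹ := by simp only [commutatorElement_def]; group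
    have h2 : Commute s⁻¹ ⁅r, s⁆⁻¹ := (hcomm (hself s) (hR r s)).inv_inv
    rw [h1, h2.eq, mul_inv_cancel_right]
  have hinvL : ∀ r s : T, ⁅r⁻¹, s⁆ = ⁅r, s⁆⁻¹ := fun r s => by
    rw [← commutatorElement_inv s r⁻¹, hinvR s r, inv_inv, ← commutatorElement_inv s r, inv_inv]
  -- antisymmetry in the last two arguments
  have hA : ∀ p q r : T, ⁅r, ⁅q, p⁆⁆ = ⁅r, ⁅p, q⁆⁆⁻¹ := fun p q r => by
    rw [← commutatorElement_inv p q, hinvR]
  -- antisymmetry in the outer arguments
  have hB : ∀ p q r : T, ⁅r, ⁅p, q⁆⁆ * ⁅q, ⁅p, r⁆⁆ = 1 := by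
    intro p q r
    set U := ⁅p, q⁆ with hU
    set W := ⁅p, r⁆ with hW
    have hUA : U ∈ normalClosure ({p} : Set T) := hL p q
    have hWA : W ∈ normalClosure ({p} : Set T) := hL p r
    have hqW : q * W * q⁻¹ ∈ normalClosure ({p} : Set T) := (hN p).conj_mem _ hWA q
    have hX : ⁅p, q * r⁆ = U * (q * W * q⁻¹) := by
      simp only [hU, hW, commutatorElement_def]; group
    have h1 : (q * r) * ⁅p, q * r⁆ * (q * r)⁻¹ = ⁅p, q * r⁆ := by
      rw [(hcomm (hself (q * r)) (hR p (q * r))).eq, mul_inv_cancel_right]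
    rw [hX] at h1
    have hqU : q⁻¹ * U * q = U := by
      rw [mul_assoc, ← (hcomm (hself q) (hR p q)).eq, inv_mul_cancel_left]
    have hQ : r * ⁅q, W⁆ * r⁻¹ = ⁅q, W⁆ := by
      have hWr : W ∈ normalClosure ({r} : Set T) := hR p r
      have h4 : ⁅q, W⁆ ∈ normalClosure ({r} : Set T) := by
        rw [commutatorElement_def]
        exact mul_mem ((hN r).conj_mem _ hWr q) (inv_mem hWr)
      rw [(hcomm (hself r) h4).eq, mul_inv_cancel_right]
    have hrW : r * W * r⁻¹ = W := by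
      rw [(hcomm (hself r) (hR p r)).eq, mul_inv_cancel_right]
    have h2 : r * U * r⁻¹ * (⁅q, W⁆ * W) = U * W := by
      calc r * U * r⁻¹ * (⁅q, W⁆ * W)
          = r * U * r⁻¹ * ((r * ⁅q, W⁆ * r⁻¹) * (r * W * r⁻¹)) := by rw [hQ, hrW]
        _ = q⁻¹ * ((q * r) * (U * (q * W * q⁻¹)) * (q * r)⁻¹) * q := by
            simp only [commutatorElement_def]; group
        _ = q⁻¹ * U * q * W := by rw [h1]; group
        _ = U * W := by rw [hqU]
    have h3 : r * U * r⁻¹ * ⁅q, W⁆ = U := by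
      have := congrArg (fun z => z * W⁻¹) h2
      simpa [mul_assoc] using this
    have hQA : ⁅q, W⁆ ∈ normalClosure ({p} : Set T) := by
      rw [commutatorElement_def]; exact mul_mem hqW (inv_mem hWA)
    calc ⁅r, U⁆ * ⁅q, W⁆ = r * U * r⁻¹ * (U⁻¹ * ⁅q, W⁆) := by
          simp only [commutatorElement_def, mul_assoc]
      _ = r * U * r⁻¹ * (⁅q, W⁆ * U⁻¹) := by rw [(hcomm hUA hQA).inv_left.eq]
      _ = 1 := by rw [← mul_assoc, h3, mul_inv_cancel]
  -- cyclic symmetry
  have hcyc : ∀ p q r : T, ⁅r, ⁅p, q⁆⁆ = ⁅q, ⁅r, p⁆⁆ := fun p q r => by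
    rw [hA p r q]; exact eq_inv_of_mul_eq_one_left (hB p q r)
  set t := ⁅c, ⁅a, b⁆⁆ with ht
  have hta : Commute a t := by
    refine hcomm (hself a) ?_
    rw [ht, commutatorElement_def]
    exact mul_mem ((hN a).conj_mem _ (hL a b) c) (inv_mem (hL a b))
  have htb : Commute b t := by
    refine hcomm (hself b) ?_
    rw [ht, commutatorElement_def]
    exact mul_mem ((hN b).conj_mem _ (hR a b) c) (inv_mem (hR a b))
  have htc : Commute c t := hcomm (hself c) (hL c _)
  have hT2 : ⁅a, ⁅b, c⁆⁆ = t := by rw [ht, hcyc a b c, hcyc c a b]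
  have hT3 : ⁅b, ⁅c, a⁆⁆ = t := by rw [ht, hcyc a b c]
  have hterm : ∀ p q r v : T, ⁅r, ⁅p, q⁆⁆ = v → Commute q v →
      q⁻¹ * ⁅⁅q, p⁻¹⁆, r⁻¹⁆ * q = v := by
    intro p q r v hv hqv
    rw [hinvR q p, commutatorElement_inv, hinvR, commutatorElement_inv, hv, mul_assoc, ← hqv.eq,
      inv_mul_cancel_left]
  calc t ^ 3 = (b⁻¹ * ⁅⁅b, a⁻¹⁆, c⁻¹⁆ * b) * (c⁻¹ * ⁅⁅c, b⁻¹⁆, a⁻¹⁆ * c) *
        (a⁻¹ * ⁅⁅a, c⁻¹⁆, b⁻¹⁆ * a) := by
        rw [hterm a b c t ht.symm htb, hterm b c a t hT2 htc, hterm c a b t hT3 hta,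
          pow_three, mul_assoc]
    _ = 1 := by simp only [commutatorElement_def]; group

open scoped commutatorElement in
/-- A 2-group with such an automorphism has class at most two. -/
theorem commutator_central (h : FpfThree ρ) (hT : IsPGroup 2 T) (a b c : T) :
    Commute c ⁅a, b⁆ := by
  rw [← commutatorElement_eq_one_iff_commute]
  obtain ⟨k, hk⟩ := hT ⁅c, ⁅a, b⁆⁆
  have h3 := commutator_cube (commute_conj h) a b c
  refine orderOf_eq_one_iff.1 (Nat.eq_one_of_dvd_coprimes ?_ (orderOf_dvd_of_pow_eq_one hk)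
    (orderOf_dvd_of_pow_eq_one h3))
  exact Nat.Coprime.pow_left k (by norm_num)

end Cfsg.Agent.SelfCentThree
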