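import Cfsg.Agent.SelfCentThree.Basic
import Cfsg.Agent.Fusion.Basic
import Cfsg.Agent.Modules.Fixed
import Cfsg.Agent.SmallGroups.Basic

/-!
# Maximal invariant subgroups of order prime to three

In a simple group with a self-centralising element of order three whose proper subgroups are
understood, a maximal invariant subgroup `U` is nilpotent, has index three or six in its
normaliser, and the normalisers of its primary parts lie in the normaliser of `U`.
-/

set_option autoImplicit false

namespace Cfsg.Agent.SelfCentThree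

open Subgroup
open Cfsg.Agent.Fusion (cj mem_cj conj_mem_cj)

variable {G : Type*} [Group G]

/-- A maximal invariant subgroup of order prime to three. -/
structure Max (x : G) (U : Subgroup G) : Prop where
  inv : Inv x U
  max : ∀ M, Inv x M → U ≤ M → M ≤ U

/-- What is known of a proper subgroup `K` containing `x`. -/
def Local (x : G) (K : Subgroup G) : Prop :=
  ∃ O : Subgroup G, O ≤ K ∧ K ≤ normalizer (O : Set G) ∧ Inv x O ∧
    (∀ M : Subgroup G, M ≤ K → K ≤ normalizer (M : Set G) → ¬ 3 ∣ Nat.card M → M ≤ O) ∧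
    (Nat.card K = 3 * Nat.card O ∨ Nat.card K = 6 * Nat.card O ∨
      (Nat.card K = 60 * Nat.card O ∧ IsPGroup 2 O ∧ ∃ R : Subgroup G, Inv x R ∧ O < R) ∨ O = ⊥)

/-- A simple group in which the proper subgroups over elements of order three are understood. -/
structure Setup (G : Type*) [Group G] : Prop where
  simple : IsSimpleGroup G
  na : ¬ IsMulCommutative G
  ex : ∃ x : G, SC x
  loc : ∀ (x : G) (K : Subgroup G), orderOf x = 3 → x ∈ K → K ≠ ⊤ → Local x K

/-- The `r`-part of a nilpotent subgroup. -/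
noncomputable def qp (U : Subgroup G) (r : ℕ) : Subgroup G := (pCore r U).map U.subtype

theorem qp_le (U : Subgroup G) (r : ℕ) : qp U r ≤ U := map_subtype_le _

theorem qp_isPGroup (U : Subgroup G) (r : ℕ) : IsPGroup r (qp U r) := Cores.pCore_isPGroup.map _

variable [Finite G] {x : G} {U : Subgroup G}

theorem Setup.sc (hS : Setup G) {y : G} (hy : orderOf y = 3) : SC y := by
  obtain ⟨x, hx⟩ := hS.ex
  exact hx.of_order hy

theorem Setup.normalizer_ne_top (hS : Setup G) {M : Subgroup G} (h1 : M ≠ ⊥)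
    (h3 : ¬ 3 ∣ Nat.card M) : normalizer (M : Set G) ≠ ⊤ := fun e => by
  haveI := hS.simple
  obtain ⟨x, hx⟩ := hS.ex
  have hn : M.Normal := normalizer_eq_top_iff.1 e
  rw [SmallGroups.eq_top_of_normal hn h1, Subgroup.card_top] at h3
  exact h3 hx.three_dvd

omit [Finite G] in
theorem mem_normalizer_of_inv (h : SC x) {M : Subgroup G} (hI : Inv x M) :
    x ∈ normalizer (M : Set G) := by
  rw [mem_normalizer_iff]
  refine fun m => ⟨hI.conj m, fun hm => ?_⟩
  have := hI.conj_inv h hm
  simpa [mul_assoc] using this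

theorem exists_max (x : G) {M : Subgroup G} (hM : Inv x M) : ∃ U, M ≤ U ∧ Max x U := by
  classical
  have : Fintype (Subgroup G) := Fintype.ofFinite _
  obtain ⟨U, hU, hmax⟩ := Finset.exists_max_image
    (Finset.univ.filter fun U : Subgroup G => M ≤ U ∧ Inv x U) (fun U => Nat.card U)
    ⟨M, by simp [hM]⟩
  simp only [Finset.mem_filter, Finset.mem_univ, true_and] at hU hmax
  refine ⟨U, hU.1, hU.2, fun N hN hUN => ?_⟩
  exact (Subgroup.eq_of_le_of_card_ge hUN (hmax N ⟨hU.1.trans hUN, hN⟩)).ge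

theorem Inv.sup {M N : Subgroup G} (hM : Inv x M) (hN : Inv x N)
    (h : M ≤ normalizer (N : Set G)) : Inv x (M ⊔ N) := by
  refine ⟨fun m hm => ?_, fun h3 => ?_⟩
  · have h1 : cj x (M ⊔ N) ≤ M ⊔ N := by
      show Subgroup.map _ (M ⊔ N) ≤ M ⊔ N
      rw [Subgroup.map_sup]
      refine sup_le_sup ?_ ?_
      · rintro _ ⟨a, ha, rfl⟩; exact hM.conj a ha
      · rintro _ ⟨a, ha, rfl⟩; exact hN.conj a ha
    exact h1 (conj_mem_cj.2 hm)
  · have h1 : 3 ∣ Nat.card M * Nat.card N := by
      rw [← Modules.card_sup_mul_card_inf h]; exact h3.mul_right _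
    rcases (Nat.Prime.dvd_mul Nat.prime_three).1 h1 with e | e
    exacts [hM.ndvd e, hN.ndvd e]

theorem Max.le_of_normalizes (hU : Max x U) {N : Subgroup G} (hN : Inv x N)
    (h : U ≤ normalizer (N : Set G)) : N ≤ U :=
  le_sup_right.trans (hU.max _ (hU.inv.sup hN h) le_sup_left)

omit [Finite G] in
theorem Max.conj (hU : Max x U) (g : G) : Max (g * x * g⁻¹) (cj g U) := by
  have hinv : ∀ {y : G} {M : Subgroup G} (a : G), Inv y M → Inv (a * y * a⁻¹) (cj a M) := by
    intro y M a hM
    refine ⟨fun m hm => ?_, fun e => hM.ndvd (Fusion.card_cj a M ▸ e)⟩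
    rw [mem_cj] at hm ⊢
    have := hM.conj _ hm
    simpa [mul_assoc] using this
  refine ⟨hinv g hU.inv, fun M hM hle => ?_⟩
  have h1 := hinv g⁻¹ hM
  rw [show g⁻¹ * (g * x * g⁻¹) * g⁻¹⁻¹ = x by group] at h1
  have h2 := hU.max _ h1 (by rw [← Fusion.cj_inv_cj g U]; exact Fusion.cj_mono _ hle)
  rw [← Fusion.cj_cj_inv g M]
  exact Fusion.cj_mono g h2

theorem le_qp (h : SC x) (hI : Inv x U) {r : ℕ} [Fact r.Prime] {Q : Subgroup G} (hQ : IsPGroup r Q)
    (hle : Q ≤ U) : Q ≤ qp U r := by
  haveI := hI.isNilpotent h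
  obtain ⟨P, hP⟩ := (hQ.comap_subtype (K := U)).exists_le_sylow
  haveI : (P : Subgroup U).Normal := inferInstance
  intro q hq
  exact ⟨⟨q, hle hq⟩, Cores.le_pCore inferInstance P.2 (hP hq), rfl⟩

theorem card_qp (h : SC x) (hI : Inv x U) (r : ℕ) [Fact r.Prime] :
    Nat.card (qp U r) = r ^ (Nat.card U).factorization r := by
  haveI := hI.isNilpotent h
  obtain ⟨P⟩ : Nonempty (Sylow r U) := inferInstance
  have hP : (P : Subgroup U) = pCore r U :=
    le_antisymm (Cores.le_pCore inferInstance P.2) (Cores.pCore_le_sylow P)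
  rw [qp, Subgroup.card_subtype, ← hP, P.card_eq_multiplicity]

theorem qp_ne_bot (h : SC x) (hI : Inv x U) {r : ℕ} [hr : Fact r.Prime] (hd : r ∣ Nat.card U) :
    qp U r ≠ ⊥ := fun e => by
  have h1 := card_qp h hI r
  rw [e, card_bot] at h1
  have h2 := Nat.Prime.factorization_pos_of_dvd hr.out Nat.card_pos.ne' hd
  exact absurd h1.symm (Nat.one_lt_pow h2.ne' hr.out.one_lt).ne'

theorem normalizer_le_normalizer_qp (h : SC x) (hI : Inv x U) (r : ℕ) [Fact r.Prime] :
    normalizer (U : Set G) ≤ normalizer (qp U r : Set G) := by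
  intro g hg
  rw [← Fusion.cj_eq_iff_mem_normalizer]
  refine Subgroup.eq_of_le_of_card_ge (le_qp h hI (Fusion.isPGroup_cj (qp_isPGroup U r) g) ?_)
    (Fusion.card_cj g _).ge
  exact (Fusion.cj_mono g (qp_le U r)).trans (Fusion.cj_eq_of_mem hg).le

theorem Inv.qp (h : SC x) (hI : Inv x U) (r : ℕ) [Fact r.Prime] : Inv x (qp U r) :=
  ⟨fun m hm => (mem_normalizer_iff.1
      (normalizer_le_normalizer_qp h hI r (mem_normalizer_of_inv h hI)) m).1 hm,
    fun e => hI.ndvd (e.trans (Subgroup.card_dvd_of_le (qp_le U r)))⟩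

/-- The index of `U` in its normaliser. -/
theorem Max.card_normalizer (hS : Setup G) (h : SC x) (hU : Max x U) (hne : U ≠ ⊥) :
    (Nat.card (normalizer (U : Set G)) = 3 * Nat.card U ∨
      Nat.card (normalizer (U : Set G)) = 6 * Nat.card U) ∧
      ∀ M : Subgroup G, M ≤ normalizer (U : Set G) → normalizer (U : Set G) ≤ normalizer (M : Set G) →
        ¬ 3 ∣ Nat.card M → M ≤ U := by
  obtain ⟨O, hOK, hKO, hO, hcore, hcase⟩ := hS.loc x _ h.order (mem_normalizer_of_inv h hU.inv)
    (hS.normalizer_ne_top hne hU.inv.ndvd)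
  have hUO : U ≤ O := hcore U le_normalizer le_rfl hU.inv.ndvd
  have hOU : O = U := le_antisymm (hU.max O hO hUO) hUO
  subst hOU
  refine ⟨?_, hcore⟩
  rcases hcase with e | e | ⟨-, -, R, hR, hlt⟩ | e
  · exact Or.inl e
  · exact Or.inr e
  · exact absurd (hU.max R hR hlt.le) (not_le_of_gt hlt)
  · exact absurd e hne

/-- The normaliser of a primary part of `U` lies in the normaliser of `U`. -/
theorem Max.normalizer_qp_le (hS : Setup G) (h : SC x) (hU : Max x U) {r : ℕ} [hr : Fact r.Prime]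
    (hd : r ∣ Nat.card U) : normalizer (qp U r : Set G) ≤ normalizer (U : Set G) := by
  have hP1 : qp U r ≠ ⊥ := qp_ne_bot h hU.inv hd
  have hPI : Inv x (qp U r) := hU.inv.qp h r
  have hUK : U ≤ normalizer (qp U r : Set G) :=
    le_normalizer.trans (normalizer_le_normalizer_qp h hU.inv r)
  obtain ⟨O, hOK, hKO, hO, hcore, hcase⟩ := hS.loc x _ h.order (mem_normalizer_of_inv h hPI)
    (hS.normalizer_ne_top hP1 hPI.ndvd)
  have hOU : O ≤ U := hU.le_of_normalizes hO (hUK.trans hKO)
  have hPO : qp U r ≤ O := hcore _ le_normalizer le_rfl hPI.ndvd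
  have hdvd := Subgroup.card_dvd_of_le hUK
  have hm1 := hU.inv.card_mod h
  have hm2 := hO.card_mod h
  have hcop : Nat.Coprime (Nat.card U) 3 :=
    Nat.coprime_comm.1 ((Nat.Prime.coprime_iff_not_dvd Nat.prime_three).2 hU.inv.ndvd)
  rcases hcase with e | e | ⟨e, h2, -⟩ | e
  · rw [e] at hdvd
    have h1 := Nat.le_of_dvd Nat.card_pos (hcop.dvd_of_dvd_mul_left hdvd)
    rwa [Subgroup.eq_of_le_of_card_ge hOU h1] at hKO
  · rw [e, show 6 * Nat.card O = 3 * (2 * Nat.card O) by ring] at hdvd
    obtain ⟨a, ha⟩ := Subgroup.card_dvd_of_le hOU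
    have h3 := hcop.dvd_of_dvd_mul_left hdvd
    rw [ha, mul_comm 2, Nat.mul_dvd_mul_iff_left Nat.card_pos] at h3
    rcases (Nat.dvd_prime Nat.prime_two).1 h3 with e1 | e1
    · rw [e1, mul_one] at ha
      rwa [Subgroup.eq_of_le_of_card_ge hOU ha.le] at hKO
    · rw [e1] at ha; omega
  · -- `U` is a 2-group
    have hr2 : r = 2 := by
      obtain ⟨a, ha⟩ := IsPGroup.iff_card.1 h2
      have hd2 : r ∣ Nat.card (qp U r) := by
        rw [card_qp h hU.inv r]
        exact dvd_pow_self r (Nat.Prime.factorization_pos_of_dvd hr.out Nat.card_pos.ne' hd).ne'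
      have h3 := hd2.trans (Subgroup.card_dvd_of_le hPO)
      rw [ha] at h3
      exact (Nat.prime_dvd_prime_iff_eq hr.out Nat.prime_two).1 (hr.out.dvd_of_dvd_pow h3)
    subst hr2
    suffices hUP : U ≤ qp U 2 by
      have hEq : qp U 2 = U := le_antisymm (qp_le U 2) hUP
      rw [hEq]
    obtain ⟨a, ha⟩ := IsPGroup.iff_card.1 h2
    have hU20 : ∀ s : ℕ, s.Prime → s ∣ Nat.card U → s = 2 := by
      intro s hs hsd
      by_contra hs2
      haveI : Fact s.Prime := ⟨hs⟩
      have hs3 : s ≠ 3 := fun e => hU.inv.ndvd (e ▸ hsd)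
      rw [e, ha] at hdvd
      have hcard := card_qp h hU.inv s
      have hdd := (Subgroup.card_dvd_of_le (qp_le U s)).trans hdvd
      rw [hcard] at hdd
      have hm := (hU.inv.qp h s).card_mod h
      rw [hcard] at hm
      have hpos := Nat.Prime.factorization_pos_of_dvd hs Nat.card_pos.ne' hsd
      have hd15 : s ^ (Nat.card U).factorization s ∣ 60 :=
        (Nat.Coprime.pow _ a ((Nat.coprime_primes hs Nat.prime_two).2 hs2)).dvd_of_dvd_mul_right hdd
      have hs60 : s ∣ 60 := (dvd_pow_self s hpos.ne').trans hd15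
      have : s = 5 := by
        have h1 : s ≤ 60 := Nat.le_of_dvd (by norm_num) hs60
        interval_cases s <;> first
          | omega
          | (exfalso; revert hs; norm_num)
      subst this
      have : (Nat.card U).factorization 5 = 1 := by
        have h4 : 5 ^ (Nat.card U).factorization 5 ≤ 60 := Nat.le_of_dvd (by norm_num) hd15
        by_contra hne
        rcases Nat.lt_or_ge (Nat.card U |>.factorization 5) 3 with h5 | h5
        · have : (Nat.card U).factorization 5 = 2 := by omega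
          rw [this] at hd15
          norm_num at hd15
        · have := Nat.pow_le_pow_right (show 0 < 5 by norm_num) h5
          omega
      rw [this] at hm
      omega
    have hU2 : IsPGroup 2 U :=
      IsPGroup.of_card (Nat.eq_prime_pow_of_unique_prime_dvd Nat.card_pos.ne'
        fun hd hdd => hU20 _ hd hdd)
    exact le_qp h hU.inv hU2 le_rfl
  · exact absurd (le_bot_iff.1 (hPO.trans e.le)) hP1

/-- A maximal invariant subgroup is determined by any of its primary parts. -/
theorem Max.eq_of_qp_eq (hS : Setup G) {y : G} {U' : Subgroup G} (h : SC x) (hU : Max x U)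
    (h' : SC y) (hU' : Max y U') {r : ℕ} [Fact r.Prime] (hd : r ∣ Nat.card U)
    (hd' : r ∣ Nat.card U') (e : qp U r = qp U' r) : U = U' := by
  have hN : normalizer (U : Set G) = normalizer (U' : Set G) := by
    rw [← le_antisymm (hU.normalizer_qp_le hS h hd) (normalizer_le_normalizer_qp h hU.inv r),
      ← le_antisymm (hU'.normalizer_qp_le hS h' hd') (normalizer_le_normalizer_qp h' hU'.inv r), e]
  have hne : U ≠ ⊥ := fun e1 => qp_ne_bot h hU.inv hd (le_bot_iff.1 ((qp_le U r).trans e1.le))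
  have hne' : U' ≠ ⊥ := fun e1 => qp_ne_bot h' hU'.inv hd' (le_bot_iff.1 ((qp_le U' r).trans e1.le))
  exact le_antisymm
    ((hU'.card_normalizer hS h' hne').2 U (hN ▸ le_normalizer) hN.ge hU.inv.ndvd)
    ((hU.card_normalizer hS h hne).2 U' (hN ▸ le_normalizer) hN.le hU'.inv.ndvd)

/-- A primary part of `U` is a Sylow subgroup of `G`, unless `r = 2` and `U` has index six. -/
theorem Max.sylow_qp (hS : Setup G) (h : SC x) (hU : Max x U) {r : ℕ} [hr : Fact r.Prime]
    (hd : r ∣ Nat.card U)
    (hw : r ≠ 2 ∨ Nat.card (normalizer (U : Set G)) = 3 * Nat.card U) (Q : Sylow r G)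
    (hQ : qp U r ≤ (Q : Subgroup G)) : qp U r = (Q : Subgroup G) := by
  by_contra hne
  have hlt := Fusion.lt_normalizer_inf Q.2 (lt_of_le_of_ne hQ hne)
  have hne' : U ≠ ⊥ := fun e => qp_ne_bot h hU.inv hd (le_bot_iff.1 ((qp_le U r).trans e.le))
  have hr3 : r ≠ 3 := fun e => hU.inv.ndvd (e ▸ hd)
  obtain ⟨k, hk⟩ := IsPGroup.iff_card.1
    (Q.2.to_le (inf_le_left : (Q : Subgroup G) ⊓ normalizer (qp U r : Set G) ≤ Q))
  have hd2 : r ^ k ∣ Nat.card (normalizer (U : Set G)) :=
    hk ▸ Subgroup.card_dvd_of_le (inf_le_right.trans (hU.normalizer_qp_le hS h hd))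
  have hlt' : Nat.card (qp U r) < r ^ k := by
    rw [← hk]
    exact lt_of_not_ge fun e => hlt.ne (Subgroup.eq_of_le_of_card_ge hlt.le e)
  rw [card_qp h hU.inv r] at hlt'
  have hkU : r ^ k ∣ Nat.card U := by
    rcases (hU.card_normalizer hS h hne').1 with e | e <;> rw [e] at hd2
    · exact (Nat.Coprime.pow_left k ((Nat.coprime_primes hr.out Nat.prime_three).2 hr3)).dvd_of_dvd_mul_left hd2
    · rcases hw with hw | hw
      · refine (Nat.Coprime.pow_left k ?_).dvd_of_dvd_mul_left hd2
        rw [show 6 = 2 * 3 by norm_num]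
        exact Nat.Coprime.mul_right ((Nat.coprime_primes hr.out Nat.prime_two).2 hw)
          ((Nat.coprime_primes hr.out Nat.prime_three).2 hr3)
      · rw [hw] at e
        have := Nat.card_pos (α := U)
        omega
  have := (Nat.Prime.pow_dvd_iff_le_factorization hr.out Nat.card_pos.ne').1 hkU
  exact absurd (Nat.pow_le_pow_right hr.out.pos this) (not_le_of_gt hlt')

end Cfsg.Agent.SelfCentThree
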