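import Cfsg.Agent.SelfCentThree.Basic
import Cfsg.Agent.SmallGroups.Basic

/-!
# The normaliser of a self-centralising subgroup of order three
-/

set_option autoImplicit false
set_option linter.style.haveILetI false

namespace Cfsg.Agent.SelfCentThree

open Subgroup

variable {G : Type*} [Group G] [Finite G] {x : G}

/-- Either some element inverts `x` and `|G| ≡ 6 [MOD 18]`, or none does and `|G| ≡ 3 [MOD 9]`. -/
theorem SC.card_cases (h : SC x) :
    ((∃ s : G, s * x * s⁻¹ = x⁻¹) ∧ Nat.card G % 18 = 6) ∨
      ((¬ ∃ s : G, s * x * s⁻¹ = x⁻¹) ∧ Nat.card G % 9 = 3) := by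
  haveI : Fact (Nat.Prime 3) := ⟨Nat.prime_three⟩
  have hf : (Nat.card G).factorization 3 = 1 := by
    have h1 := (Nat.Prime.pow_dvd_iff_le_factorization Nat.prime_three Nat.card_pos.ne' (k := 1)).1
      (by rw [pow_one]; exact h.three_dvd)
    by_contra hne
    exact h.not_nine ((Nat.Prime.pow_dvd_iff_le_factorization Nat.prime_three Nat.card_pos.ne'
      (k := 2)).2 (by omega))
  let P : Sylow 3 G := Sylow.ofCard (zpowers x) (by rw [Nat.card_zpowers, h.order, hf, pow_one])
  have hPe : (P : Subgroup G) = zpowers x := rfl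
  have hn := SmallGroups.card_sylow_mul_card_normalizer P
  have hm : Nat.card (Sylow 3 G) % 3 = 1 := card_sylow_modEq_one 3 G
  rw [hPe] at hn
  set K := normalizer (zpowers x : Set G) with hK
  have hKle : zpowers x ≤ K := le_normalizer
  have hKcases : ∀ b ∈ K, b * x * b⁻¹ = x ∨ b * x * b⁻¹ = x⁻¹ := fun b hb =>
    h.normalizer_cases ((mem_normalizer_iff.1 hb x).1 (mem_zpowers x))
  by_cases hs : ∃ s : G, s * x * s⁻¹ = x⁻¹
  · refine Or.inl ⟨hs, ?_⟩
    obtain ⟨s, hs⟩ := hs
    have hsK : s ∈ K := by
      rw [hK, mem_normalizer_iff_map_conj_eq, MonoidHom.map_zpowers]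
      show zpowers (s * x * s⁻¹) = _
      rw [hs, zpowers_inv]
    have hidx : ((zpowers x).subgroupOf K).index = 2 := by
      rw [Subgroup.index_eq_two_iff]
      refine ⟨⟨s, hsK⟩, fun b => ?_⟩
      rcases hKcases b b.2 with e | e
      · have hb : (b : G) ∈ zpowers x := h.cent _ (mul_inv_eq_iff_eq_mul.1 e)
        refine Or.inr ⟨hb, fun hbs => ?_⟩
        have h2 : s ∈ zpowers x := by
          simpa using mul_mem (inv_mem hb) (hbs : (b : G) * s ∈ zpowers x)
        obtain ⟨k, rfl⟩ := h2
        exact h.inv_ne (by rw [← hs]; group)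
      · refine Or.inl ⟨?_, fun hb => h.inv_ne ?_⟩
        · refine h.cent _ (mul_inv_eq_iff_eq_mul.1 ?_)
          calc (b : G) * s * x * ((b : G) * s)⁻¹ = b * (s * x * s⁻¹) * (b : G)⁻¹ := by group
            _ = ((b : G) * x * (b : G)⁻¹)⁻¹ := by rw [hs]; group
            _ = x := by rw [e, inv_inv]
        · have hc : Commute (b : G) x := by
            obtain ⟨k, hk⟩ := mem_zpowers_iff.1 (hb : (b : G) ∈ zpowers x)
            have hk2 : x ^ k = (b : G) := hk
            rw [← hk2]
            exact (Commute.refl x).zpow_left k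
          rw [← e, hc.eq, mul_inv_cancel_right]
    have hcard : Nat.card K = 6 := by
      rw [← Subgroup.card_mul_index ((zpowers x).subgroupOf K), hidx,
        Nat.card_congr (Subgroup.subgroupOfEquivOfLe hKle).toEquiv, Nat.card_zpowers, h.order]
    rw [hcard] at hn
    omega
  · refine Or.inr ⟨hs, ?_⟩
    have hcard : Nat.card K = 3 := by
      rw [show K = zpowers x from le_antisymm (fun b hb => by
        rcases hKcases b hb with e | e
        · exact h.cent b (mul_inv_eq_iff_eq_mul.1 e)
        · exact absurd ⟨b, e⟩ hs) hKle, Nat.card_zpowers, h.order]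
    rw [hcard] at hn
    omega

/-- In a nonabelian simple group an element of order three with this property is real. -/
theorem SC.exists_inverter_of_simple [IsSimpleGroup G] (hna : ¬ IsMulCommutative G) (h : SC x) :
    ∃ s : G, s * x * s⁻¹ = x⁻¹ := by
  haveI : Fact (Nat.Prime 3) := ⟨Nat.prime_three⟩
  by_contra hs
  have hf : (Nat.card G).factorization 3 = 1 := by
    have h1 := (Nat.Prime.pow_dvd_iff_le_factorization Nat.prime_three Nat.card_pos.ne' (k := 1)).1
      (by rw [pow_one]; exact h.three_dvd)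
    by_contra hne
    exact h.not_nine ((Nat.Prime.pow_dvd_iff_le_factorization Nat.prime_three Nat.card_pos.ne'
      (k := 2)).2 (by omega))
  let P : Sylow 3 G := Sylow.ofCard (zpowers x) (by rw [Nat.card_zpowers, h.order, hf, pow_one])
  refine SmallGroups.not_normalizer_le_centralizer hna h.three_dvd P fun b hb => ?_
  rcases h.normalizer_cases ((mem_normalizer_iff.1 hb x).1 (mem_zpowers x)) with e | e
  · refine mem_centralizer_iff.2 fun c hc => ?_
    obtain ⟨k, rfl⟩ := (hc : c ∈ zpowers x)
    exact ((Commute.zpow_right (mul_inv_eq_iff_eq_mul.1 e : Commute b x) k).symm).eq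
  · exact absurd ⟨b, e⟩ hs

end Cfsg.Agent.SelfCentThree
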