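import Cfsg.Agent.SelfCentThree.TwoPart
import Cfsg.Agent.SelfCentThree.Real
import Cfsg.Agent.SelfCentThree.Count

/-!
# The simple groups with a self-centralising element of order three

A maximal invariant subgroup has a normaliser of index at most nine, so the order is 60 or 168.
-/

set_option autoImplicit false
set_option linter.style.haveILetI false

namespace Cfsg.Agent.SelfCentThree

open Subgroup
open Cfsg.Agent.Fusion (cj mem_cj conj_mem_cj)

variable {G : Type*} [Group G] [Finite G] {x : G} {U U' : Subgroup G}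

omit [Finite G] in
theorem Max.inv_x (h : SC x) (hU : Max x⁻¹ U) : Max x U := by
  have hh : ∀ {a : G} {M : Subgroup G}, SC a → Inv a M → Inv a⁻¹ M := fun ha hM =>
    ⟨fun _ hm => hM.conj_inv ha hm, hM.ndvd⟩
  refine ⟨?_, fun M hM hle => hU.max M (hh h hM) hle⟩
  have := hh h.inv hU.inv
  rwa [inv_inv] at this

/-- The members of a class. -/
theorem Max.class_cases (hU : Max x U) (h : SC x) {s : G} (hs : s * x * s⁻¹ = x⁻¹) {k : G}
    (hk : Inv x (cj k U)) : cj k U = U ∨ cj k U = cj s U := by
  have hxN : x ∈ normalizer (U : Set G) := mem_normalizer_of_inv h hU.inv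
  have hc : k⁻¹ * x * k ∈ normalizer (U : Set G) := by
    have := mem_normalizer_of_inv h hk
    rw [← Fusion.cj_normalizer] at this
    exact mem_cj.1 this
  obtain ⟨n, hn⟩ := (h.subgroup hxN).exists_conj (y := ⟨_, hc⟩) (by
    rw [Subgroup.orderOf_mk]
    simpa using (h.conj k⁻¹).order)
  have hUn : cj (k * (n : G)) U = cj k U := by
    rw [← Fusion.cj_cj, Fusion.cj_eq_of_mem n.2]
  have hX : ∀ {b : G}, b ∈ zpowers x → cj b U = U := fun hb =>
    Fusion.cj_eq_of_mem ((zpowers_le.2 hxN) hb)
  rcases hn with e | e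
  · have e' : (n : G) * x * (n : G)⁻¹ = k⁻¹ * x * k := congrArg Subtype.val e
    refine Or.inl ?_
    rw [← hUn]
    refine hX (h.cent _ (mul_inv_eq_iff_eq_mul.1 ?_))
    calc k * (n : G) * x * (k * (n : G))⁻¹ = k * ((n : G) * x * (n : G)⁻¹) * k⁻¹ := by group
      _ = x := by rw [e']; group
  · have e' : (n : G) * x⁻¹ * (n : G)⁻¹ = k⁻¹ * x * k := congrArg Subtype.val e
    refine Or.inr ?_
    have e2 : k * (n : G) * x⁻¹ * (k * (n : G))⁻¹ = x := by
      calc k * (n : G) * x⁻¹ * (k * (n : G))⁻¹ = k * ((n : G) * x⁻¹ * (n : G)⁻¹) * k⁻¹ := by group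
        _ = x := by rw [e']; group
    rw [← hUn, show k * (n : G) = s * (s⁻¹ * (k * (n : G))) by group, ← Fusion.cj_cj, hX]
    refine h.cent _ (mul_inv_eq_iff_eq_mul.1 ?_)
    calc s⁻¹ * (k * (n : G)) * x * (s⁻¹ * (k * (n : G)))⁻¹
        = s⁻¹ * (k * (n : G) * x⁻¹ * (k * (n : G))⁻¹)⁻¹ * s := by group
      _ = s⁻¹ * (s * x * s⁻¹) * s := by rw [e2, hs]
      _ = x := by group

/-- In index six the class has one member. -/
theorem Max.six_fixed (hU : Max x U) (h : SC x) {s : G} (hs : s * x * s⁻¹ = x⁻¹)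
    (h6 : Nat.card (normalizer (U : Set G)) = 6 * Nat.card U) : cj s U = U := by
  have hxN : x ∈ normalizer (U : Set G) := mem_normalizer_of_inv h hU.inv
  have hm := hU.inv.card_mod h
  rcases (h.subgroup hxN).card_cases with ⟨⟨n, hn⟩, -⟩ | ⟨-, e⟩
  · have hn' : (n : G) * x * (n : G)⁻¹ = x⁻¹ := congrArg Subtype.val hn
    have hb : s * (n : G)⁻¹ ∈ zpowers x := h.cent _ (mul_inv_eq_iff_eq_mul.1 (by
      have e0 : (n : G)⁻¹ * x⁻¹ * n = x := by rw [← hn']; group
      calc s * (n : G)⁻¹ * x * (s * (n : G)⁻¹)⁻¹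
          = s * ((n : G)⁻¹ * x⁻¹ * n)⁻¹ * s⁻¹ := by group
        _ = s * x⁻¹ * s⁻¹ := by rw [e0]
        _ = (s * x * s⁻¹)⁻¹ := by group
        _ = x := by rw [hs, inv_inv]))
    refine Fusion.cj_eq_of_mem ?_
    have := mul_mem ((zpowers_le.2 hxN) hb) n.2
    simpa using this
  · rw [h6] at e
    omega

theorem qp_cj (h : SC x) (hU : Max x U) (r : ℕ) [Fact r.Prime] (g : G) :
    qp (cj g U) r = cj g (qp U r) := by
  refine le_antisymm ?_ (le_qp (h.conj g) (hU.conj g).inv
    (Fusion.isPGroup_cj (qp_isPGroup U r) g) (Fusion.cj_mono g (qp_le U r)))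
  rw [Fusion.le_cj_iff]
  exact le_qp h hU.inv (Fusion.isPGroup_cj (qp_isPGroup _ r) _)
    (Fusion.cj_le_iff.2 (by rw [inv_inv]; exact qp_le _ r))

/-- Members of odd order sharing a prime are conjugate. -/
theorem Max.conj_of_dvd (hS : Setup G) (h : SC x) (hU : Max x U) (hU' : Max x U') {r : ℕ}
    [hr : Fact r.Prime] (hr2 : r ≠ 2) (hd : r ∣ Nat.card U) (hd' : r ∣ Nat.card U') :
    ∃ g, cj g U = U' := by
  obtain ⟨Q, hQ⟩ := (qp_isPGroup U r).exists_le_sylow
  obtain ⟨Q', hQ'⟩ := (qp_isPGroup U' r).exists_le_sylow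
  obtain ⟨g, hg⟩ := Fusion.exists_cj_sylow Q Q'
  refine ⟨g, (hU.conj g).eq_of_qp_eq hS (h.conj g) h hU' (by rwa [Fusion.card_cj]) hd' ?_⟩
  rw [qp_cj h hU, hU.sylow_qp hS h hd (Or.inl hr2) Q hQ,
    hU'.sylow_qp hS h hd' (Or.inl hr2) Q' hQ', hg]

theorem prod_dvd_of_pairwise {ι : Type*} (K : Finset ι) (f : ι → ℕ) {m : ℕ}
    (hd : ∀ a ∈ K, f a ∣ m) (hc : ∀ a ∈ K, ∀ b ∈ K, a ≠ b → Nat.Coprime (f a) (f b)) :
    ∏ a ∈ K, f a ∣ m := by
  classical
  induction K using Finset.induction_on with
  | empty => simp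
  | @insert a K ha ih =>
    rw [Finset.prod_insert ha]
    refine Nat.Coprime.mul_dvd_of_dvd_of_dvd
      (Nat.coprime_prod_right_iff.2 fun b hb => hc a (Finset.mem_insert_self _ _) b
        (Finset.mem_insert_of_mem hb) fun e => ha (e ▸ hb))
      (hd a (Finset.mem_insert_self _ _))
      (ih (fun b hb => hd b (Finset.mem_insert_of_mem hb))
        fun b hb c hc' => hc b (Finset.mem_insert_of_mem hb) c (Finset.mem_insert_of_mem hc'))

theorem six_le_seven_pow : ∀ n : ℕ, 7 * (n + 2) ≤ 2 * 7 ^ (n + 1)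
  | 0 => by norm_num
  | n + 1 => by
    have := six_le_seven_pow n
    rw [pow_succ 7 (n + 1)]
    omega

/-- The members of odd order. -/
theorem odd_sum_le (hS : Setup G) (h : SC x) {s : G} (hs : s * x * s⁻¹ = x⁻¹)
    (h4 : 4 ∣ Nat.card G) (O : Finset (Subgroup G))
    (hO : ∀ U ∈ O, Max x U ∧ U ≠ ⊥ ∧ ¬ 2 ∣ Nat.card U)
    (hbig : ∀ U ∈ O, 10 * Nat.card (normalizer (U : Set G)) ≤ Nat.card G) :
    21 * ∑ U ∈ O, Nat.card U ≤ Nat.card G := by
  classical
  set key : Subgroup G → ℕ := fun U => (Nat.card U).minFac with hkey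
  set K := O.image key with hK
  have hne1 : ∀ U ∈ O, Nat.card U ≠ 1 := fun U hU e =>
    (hO U hU).2.1 (Subgroup.card_eq_one.1 e)
  have hsame : ∀ U ∈ O, ∀ U' ∈ O, key U = key U' → ∃ g, cj g U = U' := fun U hU U' hU' e => by
    haveI : Fact (key U).Prime := ⟨Nat.minFac_prime (hne1 U hU)⟩
    exact (hO U hU).1.conj_of_dvd hS h (hO U' hU').1
      (fun e2 => (hO U hU).2.2 (e2 ▸ Nat.minFac_dvd _)) (Nat.minFac_dvd _)
      (by simp only [hkey] at e; rw [e]; exact Nat.minFac_dvd _)
  have hfib : ∀ U ∈ O, (O.filter fun V => key V = key U) ⊆ {U, cj s U} := fun U hU V hV => by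
    obtain ⟨hVO, hVk⟩ := Finset.mem_filter.1 hV
    obtain ⟨g, hg⟩ := hsame U hU V hVO hVk.symm
    rcases (hO U hU).1.class_cases h hs (k := g) (hg ▸ (hO V hVO).1.inv) with e | e <;>
      simp [← hg, e]
  have hfibcard : ∀ U ∈ O, ∑ V ∈ O.filter (fun V => key V = key U), Nat.card V ≤ 2 * Nat.card U :=
    fun U hU => (Finset.sum_le_sum_of_subset (hfib U hU)).trans (by
      by_cases e : U = cj s U
      · rw [← e, Finset.pair_eq_singleton, Finset.sum_singleton]; omega
      · rw [Finset.sum_pair e, Fusion.card_cj]; omega)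
  rw [← Finset.sum_fiberwise_of_maps_to (t := K) (g := key)
    (fun U hU => Finset.mem_image_of_mem _ hU)]
  have h3 : 3 ∣ Nat.card G := h.three_dvd
  rcases Nat.lt_or_ge K.card 2 with hK2 | hK2
  · rcases Finset.eq_empty_or_nonempty K with e | ⟨r, hr⟩
    · simp [e]
    rw [Finset.eq_singleton_iff_unique_mem.2
      ⟨hr, fun b hb => Finset.card_le_one.1 (by omega) b hb r hr⟩, Finset.sum_singleton]
    obtain ⟨U, hU, rfl⟩ := Finset.mem_image.1 hr
    obtain ⟨hUm, hUb, hU2⟩ := hO U hU
    rcases (hUm.card_normalizer hS h hUb).1 with e | e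
    · have hg := hbig U hU
      obtain ⟨i, hi⟩ := Subgroup.card_subgroup_dvd_card (normalizer (U : Set G))
      have h18 : Nat.card G % 18 = 6 := by
        rcases h.card_cases with ⟨-, e'⟩ | ⟨hno, -⟩
        · exact e'
        · exact absurd ⟨s, hs⟩ hno
      rw [e] at hi hg
      have hm := hUm.inv.card_mod h
      have hi4 : 4 ∣ i := by
        have : Nat.Coprime 4 (3 * Nat.card U) := by
          refine Nat.Coprime.mul_right (by norm_num) ?_
          rw [show 4 = 2 ^ 2 by norm_num]
          exact ((Nat.Prime.coprime_iff_not_dvd Nat.prime_two).2 hU2).pow_left 2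
        exact this.dvd_of_dvd_mul_left (hi ▸ h4)
      have hi3 : i % 3 = 2 := by
        have e1 : Nat.card U * i % 3 = i % 3 := by rw [Nat.mul_mod, hm, one_mul, Nat.mod_mod]
        rw [hi, mul_assoc] at h18
        omega
      have hi10 : 10 ≤ i := by
        have := Nat.card_pos (α := U)
        rw [hi] at hg
        by_contra hlt
        nlinarith
      have hi20 : 20 ≤ i := by omega
      calc 21 * ∑ V ∈ O.filter (fun V => key V = key U), Nat.card V
          ≤ 21 * (2 * Nat.card U) := Nat.mul_le_mul_left _ (hfibcard U hU)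
        _ ≤ 3 * Nat.card U * i := by nlinarith [Nat.card_pos (α := U)]
        _ = Nat.card G := hi.symm
    · have hfix := hUm.six_fixed h hs e
      have := hbig U hU
      rw [e] at this
      have h1 := Finset.sum_le_sum_of_subset (f := fun V : Subgroup G => Nat.card V) (hfib U hU)
      rw [hfix, Finset.pair_eq_singleton, Finset.sum_singleton] at h1
      omega
  · have hrep : ∀ r ∈ K, ∃ U ∈ O, key U = r := fun r hr => by simpa [hK] using hr
    choose! rep hrepO hrepk using hrep
    have hcop : ∀ a ∈ K, ∀ b ∈ K, a ≠ b →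
        Nat.Coprime (Nat.card (rep a)) (Nat.card (rep b)) := fun a ha b hb hab => by
      refine Nat.coprime_of_dvd fun q hq hqa hqb => hab ?_
      haveI : Fact q.Prime := ⟨hq⟩
      obtain ⟨g, hg⟩ := (hO _ (hrepO a ha)).1.conj_of_dvd hS h (hO _ (hrepO b hb)).1
        (fun e => (hO _ (hrepO a ha)).2.2 (e ▸ hqa)) hqa hqb
      rw [← hrepk a ha, ← hrepk b hb]
      simp only [hkey, ← hg, Fusion.card_cj]
    have hseven : ∀ U ∈ O, 7 ≤ Nat.card U := fun U hU => by
      have h1 := (hO U hU).1.inv.card_mod h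
      have h2 := (hO U hU).2.2
      have h3 := hne1 U hU
      omega
    have hone : ∀ r ∈ K, 6 * 7 ^ (K.card - 1) *
        (∑ V ∈ O.filter (fun V => key V = r), Nat.card V) ≤ Nat.card G := fun r hr => by
      have h12 : 12 * ∏ a ∈ K, Nat.card (rep a) ∣ Nat.card G := by
        refine Nat.Coprime.mul_dvd_of_dvd_of_dvd (Nat.coprime_prod_right_iff.2 fun a ha => ?_)
          (Nat.Coprime.mul_dvd_of_dvd_of_dvd (by norm_num : Nat.Coprime 4 3) h4 h3)
          (prod_dvd_of_pairwise K _ (fun a _ => Subgroup.card_subgroup_dvd_card _) hcop)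
        rw [show 12 = 2 ^ 2 * 3 by norm_num]
        exact Nat.Coprime.mul_left
          (((Nat.Prime.coprime_iff_not_dvd Nat.prime_two).2 (hO _ (hrepO a ha)).2.2).pow_left 2)
          ((Nat.Prime.coprime_iff_not_dvd Nat.prime_three).2 (hO _ (hrepO a ha)).1.inv.ndvd)
      have h7 : 7 ^ (K.card - 1) * Nat.card (rep r) ≤ ∏ a ∈ K, Nat.card (rep a) := by
        rw [← Finset.mul_prod_erase K _ hr, mul_comm, ← Finset.card_erase_of_mem hr,
          ← Finset.prod_const]
        exact Nat.mul_le_mul_left _ (Finset.prod_le_prod' fun a ha =>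
          hseven _ (hrepO a (Finset.mem_of_mem_erase ha)))
      have h1 := hfibcard _ (hrepO r hr)
      rw [hrepk r hr] at h1
      calc 6 * 7 ^ (K.card - 1) * (∑ V ∈ O.filter (fun V => key V = r), Nat.card V)
          ≤ 6 * 7 ^ (K.card - 1) * (2 * Nat.card (rep r)) := Nat.mul_le_mul_left _ h1
        _ = 12 * (7 ^ (K.card - 1) * Nat.card (rep r)) := by ring
        _ ≤ 12 * ∏ a ∈ K, Nat.card (rep a) := Nat.mul_le_mul_left _ h7
        _ ≤ Nat.card G := Nat.le_of_dvd Nat.card_pos h12
    have hsum := Finset.sum_le_sum hone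
    rw [← Finset.mul_sum, Finset.sum_const, smul_eq_mul] at hsum
    have hpow := six_le_seven_pow (K.card - 2)
    rw [show K.card - 2 + 2 = K.card by omega, show K.card - 2 + 1 = K.card - 1 by omega] at hpow
    have hp : 0 < 2 * 7 ^ (K.card - 1) := by positivity
    refine Nat.le_of_mul_le_mul_left ?_ hp
    calc 2 * 7 ^ (K.card - 1) * (21 * ∑ r ∈ K, ∑ V ∈ O.filter (fun V => key V = r), Nat.card V)
        = 7 * (6 * 7 ^ (K.card - 1) *
            ∑ r ∈ K, ∑ V ∈ O.filter (fun V => key V = r), Nat.card V) := by ring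
      _ ≤ 7 * (K.card * Nat.card G) := Nat.mul_le_mul_left _ hsum
      _ ≤ 2 * 7 ^ (K.card - 1) * Nat.card G := by
          rw [← mul_assoc]; exact Nat.mul_le_mul_right _ hpow

/-- The members of even order. -/
theorem even_sum_le (hS : Setup G) (h : SC x) {s : G} (hs : s * x * s⁻¹ = x⁻¹)
    (E : Finset (Subgroup G)) (hE : ∀ U ∈ E, Max x U ∧ 2 ∣ Nat.card U)
    (hbig : ∀ U ∈ E, 10 * Nat.card (normalizer (U : Set G)) ≤ Nat.card G) :
    33 * ∑ U ∈ E, Nat.card U ≤ 2 * Nat.card G := by
  classical
  have hne : ∀ U ∈ E, U ≠ ⊥ := fun U hU e => by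
    have := (hE U hU).2
    rw [e, card_bot] at this
    omega
  rcases even_classes hS h E hE with hall | ⟨h6, hcard⟩
  · rcases E.eq_empty_or_nonempty with rfl | ⟨U, hU⟩
    · simp
    have hsub : E ⊆ {U, cj s U} := fun V hV => by
      obtain ⟨g, hg⟩ := hall U hU V hV
      rcases (hE U hU).1.class_cases h hs (k := g) (hg ▸ (hE V hV).1.inv) with e | e <;>
        simp [← hg, e]
    have hg := hbig U hU
    rcases ((hE U hU).1.card_normalizer hS h (hne U hU)).1 with e | e
    · obtain ⟨i, hi⟩ := Subgroup.card_subgroup_dvd_card (normalizer (U : Set G))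
      have h18 : Nat.card G % 18 = 6 := by
        rcases h.card_cases with ⟨-, e'⟩ | ⟨hno, -⟩
        · exact e'
        · exact absurd ⟨s, hs⟩ hno
      rw [e] at hi hg
      have hm := (hE U hU).1.inv.card_mod h
      have hi3 : i % 3 = 2 := by
        have e1 : Nat.card U * i % 3 = i % 3 := by rw [Nat.mul_mod, hm, one_mul, Nat.mod_mod]
        rw [hi, mul_assoc] at h18
        omega
      have hi11 : 11 ≤ i := by
        have := Nat.card_pos (α := U)
        rw [hi] at hg
        by_contra hlt
        have : i ≠ 10 := fun e => by omega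
        nlinarith [show i ≤ 9 by omega]
      have hle : ∑ V ∈ E, Nat.card V ≤ 2 * Nat.card U := (Finset.sum_le_sum_of_subset hsub).trans (by
        by_cases e : U = cj s U
        · rw [← e, Finset.pair_eq_singleton, Finset.sum_singleton]; omega
        · rw [Finset.sum_pair e, Fusion.card_cj]; omega)
      calc 33 * ∑ V ∈ E, Nat.card V ≤ 33 * (2 * Nat.card U) := Nat.mul_le_mul_left _ hle
        _ ≤ 2 * (3 * Nat.card U * i) := by nlinarith [Nat.card_pos (α := U)]
        _ = 2 * Nat.card G := by rw [hi]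
    · rw [(hE U hU).1.six_fixed h hs e, Finset.pair_eq_singleton] at hsub
      have h1 := Finset.sum_le_sum_of_subset (f := fun V : Subgroup G => Nat.card V) hsub
      rw [Finset.sum_singleton] at h1
      rw [e] at hg
      omega
  · have huniq : ∀ U ∈ E, ∀ U' ∈ E, (∃ g, cj g U = U') → U = U' := by
      rintro U hU U' hU' ⟨g, hg⟩
      rcases (hE U hU).1.class_cases h hs (k := g) (hg ▸ (hE U' hU').1.inv) with e | e
      · rw [← hg, e]
      · rw [← hg, e, (hE U hU).1.six_fixed h hs (h6 U hU)]
    have h3 := hcard huniq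
    have hone : ∀ U ∈ E, 60 * Nat.card U ≤ Nat.card G := fun U hU => by
      have := hbig U hU
      rw [h6 U hU] at this
      omega
    have hsum := Finset.sum_le_sum hone
    rw [← Finset.mul_sum, Finset.sum_const, smul_eq_mul] at hsum
    have : E.card * Nat.card G ≤ 3 * Nat.card G := Nat.mul_le_mul_right _ h3
    omega

theorem eq_four_of_dvd_twenty {n : ℕ} (hd : n ∣ 20) (hm : n % 3 = 1) (h1 : n ≠ 1)
    (h2 : n ≠ 10) : n = 4 := by
  have := Nat.le_of_dvd (by norm_num) hd
  interval_cases n <;> omega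

set_option maxHeartbeats 1000000 in
/-- The order of a simple group with such an element, and an invariant four group. -/
theorem simple_card (hS : Setup G) (h : SC x) :
    (Nat.card G = 60 ∨ Nat.card G = 168) ∧ ∃ R : Subgroup G, Inv x R ∧ Nat.card R = 4 := by
  classical
  haveI := hS.simple
  have hna := hS.na
  haveI := Fintype.ofFinite G
  haveI : Fintype (Subgroup G) := Fintype.ofFinite _
  obtain ⟨s, hs⟩ := h.exists_inverter_of_simple hna
  have h18 : Nat.card G % 18 = 6 := by
    rcases h.card_cases with ⟨-, e'⟩ | ⟨hno, -⟩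
    · exact e'
    · exact absurd ⟨s, hs⟩ hno
  have h4 : 4 ∣ Nat.card G := SmallGroups.four_dvd_card hna (by omega)
  have h12 : 12 ≤ Nat.card G := by have := Nat.card_pos (α := G); omega
  set S := Finset.univ.filter fun U : Subgroup G => U ≠ ⊥ ∧ Max x U with hSdef
  have hmem : ∀ U, U ∈ S ↔ U ≠ ⊥ ∧ Max x U := fun U => by simp [hSdef]
  set c := {u : G // IsConj x u ∧ IsConj x (u * x)} with hc
  have hcount : Nat.card c ≤ 1 + ∑ U ∈ S, (Nat.card U - 1) := by
    have hsub : ∀ u : c, x⁻¹ * (u : G) ∈
        insert (1 : G) (S.biUnion fun U => (Finset.univ.filter fun a => a ∈ U).erase 1) := by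
      rintro ⟨u, hu1, hu2⟩
      set a := x⁻¹ * u with ha
      rw [Finset.mem_insert, or_iff_not_imp_left]
      intro ha1
      have hu : u = x * a := by rw [ha]; group
      have hcube : ∀ {b : G}, IsConj x b → b * b * b = 1 := fun {b} hb => by
        obtain ⟨g, rfl⟩ := isConj_iff.1 hb
        calc g * x * g⁻¹ * (g * x * g⁻¹) * (g * x * g⁻¹) = g * (x * x * x) * g⁻¹ := by group
          _ = 1 := by rw [h.cube]; group
      set a1 := x * a * x⁻¹ with ha1d
      set a2 := x * a1 * x⁻¹ with ha2d
      have hx2 : x⁻¹ = x * x := h.inv_eq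
      have e1 : a1 * a2 * a = 1 := by
        rw [← hcube hu1, hu, ha2d, ha1d]
        calc x * a * x⁻¹ * (x * (x * a * x⁻¹) * x⁻¹) * a = x * a * (x * a) * (x⁻¹ * x⁻¹ * a) := by
              group
          _ = x * a * (x * a) * (x * a) := by
              rw [hx2, show x * x * (x * x) = (x * x * x) * x by group, h.cube, one_mul]
      have e2 : a2 * a1 * a = 1 := by
        have h2 := hcube hu2
        rw [hu] at h2
        have h3 : x * x * a * (x * x * a) * (x * x * a) = 1 := by
          calc x * x * a * (x * x * a) * (x * x * a)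
              = x * (x * a * x * (x * a * x) * (x * a * x)) * x⁻¹ := by group
            _ = 1 := by rw [h2]; group
        rw [← h3, ha2d, ha1d]
        calc x * (x * a * x⁻¹) * x⁻¹ * (x * a * x⁻¹) * a
            = x * x * a * (x⁻¹ * a) * (x⁻¹ * a) := by group
          _ = _ := by rw [hx2]
      have hc12 : a1 * a2 = a2 * a1 := mul_right_cancel (e1.trans e2.symm)
      have hcomm : Commute a a1 := by
        have hk := (Commute.conj_iff x⁻¹).2 (hc12 : Commute a1 a2)
        rwa [show x⁻¹ * a1 * x⁻¹⁻¹ = a by rw [ha1d]; group,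
          show x⁻¹ * a2 * x⁻¹⁻¹ = a1 by rw [ha2d]; group] at hk
      let A := Subgroup.closure ({a, a1} : Set G)
      have hgen : ∀ p ∈ ({a, a1} : Set G), ∀ q ∈ ({a, a1} : Set G), p * q = q * p := by
        rintro p (rfl | rfl) q (rfl | rfl)
        exacts [rfl, hcomm.eq, hcomm.symm.eq, rfl]
      have haA : a ∈ A := subset_closure (Set.mem_insert _ _)
      have ha1A : a1 ∈ A := subset_closure (Set.mem_insert_of_mem _ rfl)
      have hconj : ∀ m ∈ A, x * m * x⁻¹ ∈ A := by
        intro m hm
        have hle : A.map (MulAut.conj x).toMonoidHom ≤ A := by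
          rw [MonoidHom.map_closure, closure_le]
          rintro _ ⟨p, (rfl | rfl), rfl⟩
          · exact ha1A
          · show x * a1 * x⁻¹ ∈ A
            have e3 : a2 = (a * a1)⁻¹ := eq_inv_of_mul_eq_one_left (by rw [hcomm.eq, ← mul_assoc, e2])
            rw [← ha2d, e3]
            exact inv_mem (mul_mem haA ha1A)
        exact hle ⟨m, hm, rfl⟩
      have hA : Inv x A := by
        refine ⟨hconj, fun h3 => ?_⟩
        haveI : Fact (Nat.Prime 3) := ⟨Nat.prime_three⟩
        obtain ⟨⟨b, hb⟩, hb3⟩ := exists_prime_orderOf_dvd_card' (G := A) 3 h3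
        rw [Subgroup.orderOf_mk] at hb3
        have hB := (hS.sc hb3)
        have hbc : ∀ p ∈ A, p ∈ zpowers b := fun p hp => hB.cent p
          (congrArg Subtype.val
            ((Subgroup.isMulCommutative_closure hgen).is_comm.comm ⟨p, hp⟩ ⟨b, hb⟩))
        have hbx : Commute x b := by
          rcases hB.mem_zpowers_cases (hbc _ (hconj b hb)) with e | e | e
          · exact absurd (conj_eq_one_iff.1 e) hB.ne_one
          · exact mul_inv_eq_iff_eq_mul.1 e
          · exfalso
            refine hB.inv_ne ?_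
            calc b⁻¹ = x * (x * (x * b * x⁻¹) * x⁻¹) * x⁻¹ := by
                  rw [e]
                  calc b⁻¹ = x * (x * b * x⁻¹) * x⁻¹ * (x * (x * b * x⁻¹) * x⁻¹)⁻¹ * b⁻¹ := by
                        group
                    _ = x * (x * b⁻¹ * x⁻¹) * x⁻¹ := by
                        have e4 : x * b⁻¹ * x⁻¹ = b := by
                          rw [show x * b⁻¹ * x⁻¹ = (x * b * x⁻¹)⁻¹ by group, e, inv_inv]
                        rw [e4, e]
                        group
              _ = b := conj_three h b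
        have hbX := hB.cent x hbx
        have haX : a ∈ zpowers x := by
          obtain ⟨k, hk⟩ := hbX
          obtain ⟨l, hl⟩ := hbc a haA
          obtain ⟨j, hj⟩ := h.cent b hbx.symm
          exact ⟨j * l, by simp only at hj hl ⊢; rw [zpow_mul, hj, hl]⟩
        rcases h.mem_zpowers_cases haX with e | e | e
        · exact ha1 e
        · have h5 : u * x = 1 := by rw [hu, e]; exact h.cube
          rw [h5] at hu2
          exact h.ne_one (isConj_one_left.1 hu2)
        · rw [hu, e, mul_inv_cancel] at hu1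
          exact h.ne_one (isConj_one_left.1 hu1)
      obtain ⟨U, hAU, hU⟩ := exists_max x hA
      refine Finset.mem_biUnion.2 ⟨U, (hmem U).2 ⟨fun e => ha1 ?_, hU⟩,
        Finset.mem_erase.2 ⟨ha1, Finset.mem_filter.2 ⟨Finset.mem_univ _, hAU haA⟩⟩⟩
      exact Subgroup.mem_bot.1 (e ▸ hAU haA)
    rw [Nat.card_eq_fintype_card, ← Finset.card_univ]
    refine (Finset.card_le_card_of_injOn (fun u : c => x⁻¹ * (u : G)) (fun u _ => hsub u)
      (fun u _ v _ e => Subtype.ext (mul_left_cancel e))).trans ?_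
    refine (Finset.card_insert_le _ _).trans ?_
    rw [add_comm]
    refine Nat.add_le_add_left (Finset.card_biUnion_le.trans (le_of_eq (Finset.sum_congr rfl ?_))) 1
    intro U _
    rw [Finset.card_erase_of_mem (by simp [one_mem]), ← Fintype.card_subtype,
      Nat.card_eq_fintype_card]
  have hlt : Nat.card G < 9 * Nat.card c := card_lt_nine_mul h (isConj_iff.2 ⟨s, hs⟩)
  have hlt2 : Nat.card G < 9 * ∑ U ∈ S, Nat.card U := by
    rcases S.eq_empty_or_nonempty with e | ⟨U, hU⟩
    · rw [e, Finset.sum_empty] at hcount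
      omega
    · have h1 : 1 + ∑ V ∈ S, (Nat.card V - 1) ≤ ∑ V ∈ S, Nat.card V := by
        rw [← Finset.add_sum_erase S _ hU, ← Finset.add_sum_erase S (fun V => Nat.card V) hU]
        have h2 : ∑ V ∈ S.erase U, (Nat.card V - 1) ≤ ∑ V ∈ S.erase U, Nat.card V :=
          Finset.sum_le_sum fun V _ => Nat.sub_le _ _
        have := Nat.card_pos (α := U)
        omega
      omega
  set E := S.filter fun U : Subgroup G => 2 ∣ Nat.card U with hEdef
  set O := S.filter fun U : Subgroup G => ¬ 2 ∣ Nat.card U with hOdef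
  have hsplit : ∑ U ∈ E, Nat.card U + ∑ U ∈ O, Nat.card U = ∑ U ∈ S, Nat.card U :=
    Finset.sum_filter_add_sum_filter_not _ _ _
  have hsmall : ∃ U ∈ S, Nat.card G < 10 * Nat.card (normalizer (U : Set G)) := by
    by_contra hno
    push Not at hno
    have h1 := even_sum_le hS h hs E (fun U hU => ⟨((hmem U).1 (Finset.mem_filter.1 hU).1).2,
      (Finset.mem_filter.1 hU).2⟩) fun U hU => hno U (Finset.mem_filter.1 hU).1
    have h2 := odd_sum_le hS h hs h4 O (fun U hU => ⟨((hmem U).1 (Finset.mem_filter.1 hU).1).2,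
      ((hmem U).1 (Finset.mem_filter.1 hU).1).1, (Finset.mem_filter.1 hU).2⟩)
      fun U hU => hno U (Finset.mem_filter.1 hU).1
    omega
  obtain ⟨U, hU, hUi⟩ := hsmall
  obtain ⟨hUb, hUm⟩ := (hmem U).1 hU
  have hNtop : normalizer (U : Set G) ≠ ⊤ := hS.normalizer_ne_top hUb hUm.inv.ndvd
  have hdvd := SmallGroups.two_mul_card_dvd_factorial hna _ hNtop
  have hi := Subgroup.card_mul_index (normalizer (U : Set G))
  have hi1 := Subgroup.one_lt_index_of_ne_top hNtop
  set i := (normalizer (U : Set G)).index with hidef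
  have hm := hUm.inv.card_mod h
  have hU1 : Nat.card U ≠ 1 := fun e => hUb (Subgroup.card_eq_one.1 e)
  have hUpos := Nat.card_pos (α := U)
  have hi9 : i ≤ 9 := by
    by_contra hlt'
    rw [← hi] at hUi
    have : 10 * Nat.card (normalizer (U : Set G)) ≤ Nat.card (normalizer (U : Set G)) * i := by
      nlinarith [show 10 ≤ i by omega]
    omega
  have h10 : 2 ∣ Nat.card U → Nat.card U ≠ 10 := fun h2 e => by
    have h1 := (hUm.inv.qp h 2).card_mod h
    rw [card_qp h hUm.inv 2, e] at h1
    have h5 : (10 : ℕ).factorization 2 = 1 := by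
      have a1 := (Nat.Prime.pow_dvd_iff_le_factorization Nat.prime_two (show (10:ℕ) ≠ 0 by norm_num)
        (k := 1)).1 (by norm_num)
      have a2 : ¬ 2 ≤ (10 : ℕ).factorization 2 := fun a3 => by
        have := (Nat.Prime.pow_dvd_iff_le_factorization Nat.prime_two (show (10:ℕ) ≠ 0 by norm_num)
          (k := 2)).2 a3
        norm_num at this
      omega
    rw [h5] at h1
    omega
  have hcard : Nat.card G = 60 ∨ Nat.card G = 168 := by
    rcases (hUm.card_normalizer hS h hUb).1 with e | e <;> rw [e] at hi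
    · have hi3 : i % 3 = 2 := by
        have e1 : Nat.card U * i % 3 = i % 3 := by rw [Nat.mul_mod, hm, one_mul, Nat.mod_mod]
        rw [← hi, mul_assoc] at h18
        omega
      interval_cases i <;> first
        | omega
        | skip
      · exfalso
        have := Nat.le_of_dvd (by norm_num [Nat.factorial]) hdvd
        rw [show (2 : ℕ).factorial = 2 from rfl] at this
        omega
      · rw [show (5 : ℕ).factorial = 120 from rfl, ← hi] at hdvd
        have h4' : Nat.card U ∣ 4 := by
          rw [show 2 * (3 * Nat.card U * 5) = 30 * Nat.card U by ring,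
            show 120 = 30 * 4 from rfl] at hdvd
          exact Nat.dvd_of_mul_dvd_mul_left (by norm_num) hdvd
        have := eq_four_of_dvd_twenty (h4'.trans (by norm_num)) hm hU1 (fun e => by
          rw [e] at h4'; norm_num at h4')
        omega
      · rw [show (8 : ℕ).factorial = 40320 from rfl, ← hi] at hdvd
        have h840 : Nat.card U ∣ 840 := by
          rw [show 2 * (3 * Nat.card U * 8) = 48 * Nat.card U by ring,
            show 40320 = 48 * 840 from rfl] at hdvd
          exact Nat.dvd_of_mul_dvd_mul_left (by norm_num) hdvd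
        have hodd : ¬ 2 ∣ Nat.card U := fun h2 => by
          obtain ⟨Q, hQ⟩ := (qp_isPGroup U 2).exists_le_sylow
          have hQe := hUm.sylow_qp hS h h2 (Or.inr e) Q hQ
          have h1 := Q.card_eq_multiplicity
          rw [← hQe, card_qp h hUm.inv 2] at h1
          have h2' : 2 ^ ((Nat.card U).factorization 2 + 3) ∣ Nat.card G := by
            rw [pow_add, ← hi, show 3 * Nat.card U * 8 = Nat.card U * 2 ^ 3 * 3 by ring]
            exact Dvd.dvd.mul_right (Nat.mul_dvd_mul_right (Nat.ordProj_dvd _ _) _) _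
          have h3 := (Nat.Prime.pow_dvd_iff_le_factorization Nat.prime_two Nat.card_pos.ne').1 h2'
          have h4' := Nat.pow_right_injective (le_refl 2) h1
          omega
        have h35 : Nat.card U ∣ 35 := by
          have hcop : Nat.Coprime (Nat.card U) 24 := by
            rw [show 24 = 2 ^ 3 * 3 by norm_num]
            exact Nat.Coprime.mul_right
              (((Nat.Prime.coprime_iff_not_dvd Nat.prime_two).2 hodd).symm.pow_right 3)
              ((Nat.Prime.coprime_iff_not_dvd Nat.prime_three).2 hUm.inv.ndvd).symm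
          exact hcop.dvd_of_dvd_mul_right h840
        have h7 : Nat.card U = 7 := by
          have := Nat.le_of_dvd (by norm_num) h35
          interval_cases Nat.card U <;> omega
        omega
    · have hi3 : i % 3 = 1 := by
        have e1 : Nat.card U * i % 3 = i % 3 := by rw [Nat.mul_mod, hm, one_mul, Nat.mod_mod]
        rw [← hi, mul_assoc] at h18
        omega
      interval_cases i <;> first
        | omega
        | skip
      · exfalso
        have := Nat.le_of_dvd (by norm_num [Nat.factorial]) hdvd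
        rw [show (4 : ℕ).factorial = 24 from rfl] at this
        omega
      · rw [show (7 : ℕ).factorial = 5040 from rfl, ← hi] at hdvd
        have h60 : Nat.card U ∣ 60 := by
          rw [show 2 * (6 * Nat.card U * 7) = 84 * Nat.card U by ring,
            show 5040 = 84 * 60 from rfl] at hdvd
          exact Nat.dvd_of_mul_dvd_mul_left (by norm_num) hdvd
        have h20 : Nat.card U ∣ 20 := by
          rw [show 60 = 20 * 3 from rfl] at h60
          exact Nat.Coprime.dvd_of_dvd_mul_right
            ((Nat.Prime.coprime_iff_not_dvd Nat.prime_three).2 hUm.inv.ndvd).symm h60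
        have := eq_four_of_dvd_twenty h20 hm hU1 fun e' => h10 (by omega) e'
        omega
  refine ⟨hcard, ?_⟩
  -- some member has even order
  have hex : ∃ V ∈ S, 2 ∣ Nat.card V := by
    by_contra hno
    push Not at hno
    have hall : ∀ V ∈ S, Nat.card V = 7 := fun V hV => by
      have hd : Nat.card V ∣ Nat.card G := Subgroup.card_subgroup_dvd_card V
      have hV2 := hno V hV
      have hV3 := ((hmem V).1 hV).2.inv.card_mod h
      have hV1 : Nat.card V ≠ 1 := fun e => ((hmem V).1 hV).1 (Subgroup.card_eq_one.1 e)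
      have hle := Nat.le_of_dvd Nat.card_pos hd
      rcases hcard with e | e <;> rw [e] at hd hle <;> interval_cases Nat.card V <;> omega
    haveI : Fact (Nat.Prime 7) := ⟨by norm_num⟩
    have hsub : S ⊆ {U, cj s U} := fun V hV => by
      obtain ⟨g, hg⟩ := hUm.conj_of_dvd hS h ((hmem V).1 hV).2 (r := 7) (by norm_num)
        (by rw [hall U hU]) (by rw [hall V hV])
      rcases hUm.class_cases h hs (k := g) (hg ▸ ((hmem V).1 hV).2.inv) with e | e <;>
        simp [← hg, e]
    have h1 := (Finset.card_le_card hsub).trans Finset.card_le_two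
    rw [Finset.sum_congr rfl hall, Finset.sum_const, smul_eq_mul] at hlt2
    have h2 : 7 ∣ Nat.card G := hall U hU ▸ Subgroup.card_subgroup_dvd_card U
    rcases hcard with e | e <;> rw [e] at h2 hlt2 <;> omega
  obtain ⟨V, hV, hV2⟩ := hex
  have hI := ((hmem V).1 hV).2.inv
  refine ⟨qp V 2, hI.qp h 2, ?_⟩
  have h1 := (hI.qp h 2).card_mod h
  have h2 : Nat.card (qp V 2) ∣ Nat.card G := Subgroup.card_subgroup_dvd_card _
  have h3 := qp_ne_bot h hI hV2
  rw [Ne, ← Subgroup.card_eq_one] at h3
  rw [card_qp h hI 2] at h1 h2 h3 ⊢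
  have h5 : 2 ^ (Nat.card V).factorization 2 ∣ 2 ^ 3 := by
    rcases hcard with e | e <;> rw [e] at h2
    · have hc : Nat.Coprime (2 ^ (Nat.card V).factorization 2) 15 :=
        Nat.Coprime.pow_left _ (by norm_num)
      exact (hc.dvd_of_dvd_mul_right (show _ ∣ 4 * 15 from h2)).trans (by norm_num)
    · have hc : Nat.Coprime (2 ^ (Nat.card V).factorization 2) 21 :=
        Nat.Coprime.pow_left _ (by norm_num)
      exact hc.dvd_of_dvd_mul_right (show _ ∣ 8 * 21 from h2)
  have h6 := Nat.pow_dvd_pow_iff_le_right (show 1 < 2 by norm_num) |>.1 h5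
  interval_cases (Nat.card V).factorization 2 <;> simp_all

end Cfsg.Agent.SelfCentThree
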