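import Cfsg.Agent.SelfCentThree.Maximal
import Cfsg.Agent.Char.Nilpotent
import Mathlib.GroupTheory.Perm.Cycle.Type

/-!
# Maximal invariant subgroups of even order

All of them are conjugate, or their 2-parts are four groups of index six and there are at most
three classes.
-/

set_option autoImplicit false
set_option linter.style.haveILetI false

namespace Cfsg.Agent.SelfCentThree

open Subgroup
open Cfsg.Agent.Fusion (cj mem_cj conj_mem_cj)
open scoped commutatorElement Pointwise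

variable {G : Type*} [Group G] [Finite G] {x y : G} {U U' : Subgroup G} {T : Sylow 2 G} {z : G}

/-- An invariant subgroup has class at most two. -/
theorem Inv.commute_commutator (h : SC x) {M : Subgroup G} (hI : Inv x M) {a b c : G} (ha : a ∈ M)
    (hb : b ∈ M) (hc : c ∈ M) : Commute c (a * b * a⁻¹ * b⁻¹) := by
  have h3 := commutator_cube (commute_conj (hI.fpf h)) (⟨a, ha⟩ : M) ⟨b, hb⟩ ⟨c, hc⟩
  have h1 : ⁅(⟨c, hc⟩ : M), ⁅(⟨a, ha⟩ : M), (⟨b, hb⟩ : M)⁆⁆ = (1 : M) := by
    refine orderOf_eq_one_iff.1 (Nat.eq_one_of_dvd_coprimes ?_ (orderOf_dvd_natCard _)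
      (orderOf_dvd_of_pow_eq_one h3))
    exact Nat.coprime_comm.1 ((Nat.Prime.coprime_iff_not_dvd Nat.prime_three).2 hI.ndvd)
  exact congrArg Subtype.val (commutatorElement_eq_one_iff_commute.1 h1).eq

/-- A maximal invariant subgroup of even order whose 2-part lies in `T`. -/
structure Pos (x : G) (U : Subgroup G) (T : Sylow 2 G) : Prop where
  sc : SC x
  max : Max x U
  two : 2 ∣ Nat.card U
  le : qp U 2 ≤ (T : Subgroup G)

/-- An involution in the centre of `T`. -/
structure Zc (T : Sylow 2 G) (z : G) : Prop where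
  ne_one : z ≠ 1
  sq : z * z = 1
  mem : z ∈ (T : Subgroup G)
  cent : ∀ t ∈ (T : Subgroup G), Commute t z

theorem exists_zc (T : Sylow 2 G) (h : (T : Subgroup G) ≠ ⊥) : ∃ z, Zc T z := by
  haveI : Nontrivial (T : Subgroup G) := (Subgroup.nontrivial_iff_ne_bot _).2 h
  haveI := T.2.center_nontrivial
  have h2 : 2 ∣ Nat.card (center (T : Subgroup G)) := by
    obtain ⟨k, hk⟩ := IsPGroup.iff_card.1 (T.2.to_subgroup (center (T : Subgroup G)))
    rcases k with _ | k
    · have := Finite.one_lt_card (α := center (T : Subgroup G))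
      simp [hk] at this
    · exact hk ▸ dvd_pow_self 2 k.succ_ne_zero
  obtain ⟨c, hc⟩ := exists_prime_orderOf_dvd_card' (G := center (T : Subgroup G)) 2 h2
  refine ⟨((c : (T : Subgroup G)) : G), fun e => ?_, ?_, (c : (T : Subgroup G)).2, fun t ht => ?_⟩
  · rw [show c = 1 from Subtype.ext (Subtype.ext e), orderOf_one] at hc
    omega
  · have h1 := pow_orderOf_eq_one c
    rw [hc, pow_two] at h1
    exact congrArg (fun w : center (T : Subgroup G) => ((w : (T : Subgroup G)) : G)) h1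
  · exact congrArg Subtype.val (mem_center_iff.1 c.2 ⟨t, ht⟩)

theorem Pos.ne_bot (hP : Pos x U T) : U ≠ ⊥ := fun e =>
  qp_ne_bot hP.sc hP.max.inv hP.two (le_bot_iff.1 ((qp_le U 2).trans e.le))

theorem Pos.inv_qp (hP : Pos x U T) : Inv x (qp U 2) := hP.max.inv.qp hP.sc 2

theorem Pos.normalizer_eq (hS : Setup G) (hP : Pos x U T) :
    normalizer (qp U 2 : Set G) = normalizer (U : Set G) :=
  le_antisymm (hP.max.normalizer_qp_le hS hP.sc hP.two)
    (normalizer_le_normalizer_qp hP.sc hP.max.inv 2)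

theorem Pos.mem_qp (hP : Pos x U T) {a : G} (haT : a ∈ (T : Subgroup G)) (ha : a ∈ U) :
    a ∈ qp U 2 :=
  le_qp hP.sc hP.max.inv (T.2.to_le (zpowers_le.2 haT)) (zpowers_le.2 ha) (mem_zpowers a)

theorem Pos.mem_z (hS : Setup G) (hz : Zc T z) (hP : Pos x U T) : z ∈ qp U 2 := by
  haveI : Fact (Nat.Prime 3) := ⟨Nat.prime_three⟩
  let C : Subgroup G := centralizer (qp U 2 : Set G)
  let H : Subgroup G := C ⊓ normalizer (U : Set G)
  have hC : ∀ c : G, (∀ p ∈ qp U 2, Commute p c) → c ∈ C := fun c hc =>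
    mem_centralizer_iff.2 fun p hp => (hc p hp).eq
  have hzN : z ∈ normalizer (U : Set G) := by
    rw [← hP.normalizer_eq hS, mem_normalizer_iff]
    intro p
    constructor
    · intro hp; rwa [(hz.cent p (hP.le hp)).symm.eq, mul_inv_cancel_right]
    · intro hp
      have e := (hz.cent _ (hP.le hp)).eq
      have : z * p * z⁻¹ = p := by
        have h1 : z * p * z⁻¹ * z = z * (z * p * z⁻¹) := e
        calc z * p * z⁻¹ = z⁻¹ * (z * (z * p * z⁻¹)) := by group
          _ = z⁻¹ * (z * p * z⁻¹ * z) := by rw [h1]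
          _ = p := by group
      rwa [this] at hp
  have h3 : ¬ 3 ∣ Nat.card H := by
    intro h3
    obtain ⟨⟨c, hc⟩, hc3⟩ := exists_prime_orderOf_dvd_card' (G := H) 3 h3
    rw [Subgroup.orderOf_mk] at hc3
    have hcomm : ∀ p ∈ qp U 2, Commute p c := fun p hp => mem_centralizer_iff.1 hc.1 p hp
    have hI : Inv c (qp U 2) :=
      ⟨fun p hp => by rwa [← (hcomm p hp).eq, mul_inv_cancel_right], hP.inv_qp.ndvd⟩
    exact qp_ne_bot hP.sc hP.max.inv hP.two
      (eq_bot_iff.2 fun p hp => Subgroup.mem_bot.2 (hI.eq_one (hS.sc hc3) hp (hcomm p hp)))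
  have hnorm : normalizer (U : Set G) ≤ normalizer (H : Set G) := by
    intro n hn
    rw [← Fusion.cj_eq_iff_mem_normalizer]
    have hn' : n ∈ normalizer (qp U 2 : Set G) := hP.normalizer_eq hS ▸ hn
    refine Subgroup.eq_of_le_of_card_ge ?_ (Fusion.card_cj n H).ge
    rintro _ ⟨c, hc, rfl⟩
    refine ⟨hC _ fun p hp => ?_, show n * c * n⁻¹ ∈ normalizer (U : Set G) from
      mul_mem (mul_mem hn hc.2) (inv_mem hn)⟩
    have hp' : n⁻¹ * p * n ∈ qp U 2 := by
      simpa using (mem_normalizer_iff.1 (inv_mem hn') p).1 hp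
    have h1 := (Commute.conj_iff n).2 (mem_centralizer_iff.1 hc.1 _ hp' : Commute (n⁻¹ * p * n) c)
    simpa [mul_assoc] using h1
  have hzH : z ∈ H := ⟨hC z fun p hp => hz.cent p (hP.le hp), hzN⟩
  exact hP.mem_qp hz.mem
    ((hP.max.card_normalizer hS hP.sc hP.ne_bot).2 H inf_le_right hnorm h3 hzH)

/-- An element central in the 2-part commutes with all of `U`. -/
theorem Pos.commute_of_central (hP : Pos x U T) {c : G} (hc : c ∈ qp U 2)
    (hcc : ∀ p ∈ qp U 2, Commute c p) {u : G} (hu : u ∈ U) : Commute c u := by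
  haveI := hP.max.inv.isNilpotent hP.sc
  obtain ⟨k, hk⟩ : ∃ k, k = (Nat.card U).factorization 2 := ⟨_, rfl⟩
  set m := Nat.card U / 2 ^ k with hm
  have hd : 2 ^ k ∣ Nat.card U := hk ▸ Nat.ordProj_dvd _ _
  have hmul : 2 ^ k * m = Nat.card U := Nat.mul_div_cancel' hd
  have hcop : Nat.Coprime (2 ^ k) m := by
    rw [hm, hk]
    exact (Nat.coprime_ordCompl Nat.prime_two Nat.card_pos.ne').pow_left _
  have hum : u ^ Nat.card U = 1 :=
    congrArg Subtype.val (pow_card_eq_one' (x := (⟨u, hu⟩ : U)))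
  have h1 : Commute c (u ^ m) := by
    refine hcc _ (le_qp hP.sc hP.max.inv ?_ (zpowers_le.2 (pow_mem hu m)) (mem_zpowers _))
    obtain ⟨j, -, hj⟩ := (Nat.dvd_prime_pow Nat.prime_two).1
      (orderOf_dvd_of_pow_eq_one (show (u ^ m) ^ 2 ^ k = 1 by rw [← pow_mul, mul_comm, hmul, hum]))
    exact IsPGroup.of_card (n := j) (by rw [Nat.card_zpowers, hj])
  have h2 : Commute c (u ^ 2 ^ k) := by
    have hdc : orderOf c ∣ 2 ^ k := by
      have := Subgroup.orderOf_dvd_natCard _ hc
      rwa [card_qp hP.sc hP.max.inv 2, ← hk] at this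
    have hdu : orderOf (u ^ 2 ^ k) ∣ m :=
      orderOf_dvd_of_pow_eq_one (by rw [← pow_mul, hmul, hum])
    have hcm : Commute (⟨c, qp_le U 2 hc⟩ : U) ⟨u ^ 2 ^ k, pow_mem hu _⟩ := by
      refine Char.nilpotent_commute_of_coprime ?_
      rw [Subgroup.orderOf_mk, Subgroup.orderOf_mk]
      exact (hcop.coprime_dvd_left hdc).coprime_dvd_right hdu
    exact congrArg Subtype.val hcm.eq
  have e : u = (u ^ 2 ^ k) ^ Nat.gcdA (2 ^ k) m * (u ^ m) ^ Nat.gcdB (2 ^ k) m := by
    rw [← zpow_natCast u (2 ^ k), ← zpow_natCast u m, ← zpow_mul, ← zpow_mul, ← zpow_add,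
      ← Nat.gcd_eq_gcd_ab, hcop.gcd_eq_one, Nat.cast_one, zpow_one]
  rw [e]
  exact (h2.zpow_right _).mul_right (h1.zpow_right _)

omit [Finite G] in
theorem conj_three (h : SC x) (a : G) : x * (x * (x * a * x⁻¹) * x⁻¹) * x⁻¹ = a := by
  calc x * (x * (x * a * x⁻¹) * x⁻¹) * x⁻¹ = (x * x * x) * a * (x * x * x)⁻¹ := by group
    _ = a := by rw [h.cube]; simp

/-- What is needed of the conjugates of `z`. -/
structure VFacts (x : G) (U : Subgroup G) (z : G) : Prop where
  mem : x * z * x⁻¹ ∈ qp U 2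
  cent : ∀ u ∈ U, Commute (x * z * x⁻¹) u
  centz : ∀ u ∈ U, Commute z u
  sq : (x * z * x⁻¹) * (x * z * x⁻¹) = 1
  ne_one : x * z * x⁻¹ ≠ 1
  ne : x * z * x⁻¹ ≠ z
  next_eq : x * (x * z * x⁻¹) * x⁻¹ = z * (x * z * x⁻¹)
  back : x⁻¹ * z * x = z * (x * z * x⁻¹)

theorem Pos.vfacts (hS : Setup G) (hz : Zc T z) (hP : Pos x U T) : VFacts x U z := by
  have hI := hP.inv_qp
  have hzP := hP.mem_z hS hz
  have hzc : ∀ p ∈ qp U 2, Commute z p := fun p hp => (hz.cent p (hP.le hp)).symm
  have hcU : ∀ p ∈ qp U 2, Commute (x * z * x⁻¹) p := fun p hp => by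
    have := (Commute.conj_iff x).2 (hzc _ (hI.conj_inv hP.sc hp))
    rwa [show x * (x⁻¹ * p * x⁻¹⁻¹) * x⁻¹ = p by group] at this
  have hsq : (x * z * x⁻¹) * (x * z * x⁻¹) = 1 := by
    rw [show x * z * x⁻¹ * (x * z * x⁻¹) = x * (z * z) * x⁻¹ by group, hz.sq]; group
  have hnext : x * (x * z * x⁻¹) * x⁻¹ = z * (x * z * x⁻¹) := by
    have h1 := hI.mul_conj_mul hP.sc hzP
    rw [mul_eq_one_iff_inv_eq, mul_inv_rev] at h1
    rw [← h1, inv_eq_of_mul_eq_one_right hsq, inv_eq_of_mul_eq_one_right hz.sq]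
    exact (hzc _ (hI.conj z hzP)).symm.eq
  refine ⟨hI.conj z hzP, fun u hu => hP.commute_of_central (hI.conj z hzP) hcU hu,
    fun u hu => hP.commute_of_central hzP hzc hu, hsq,
    fun e => hz.ne_one (conj_eq_one_iff.1 e),
    fun e => hz.ne_one (hI.eq_one hP.sc hzP ((mul_inv_eq_iff_eq_mul.1 e).symm : z * x = x * z)),
    hnext, ?_⟩
  calc x⁻¹ * z * x = x⁻¹ * (x * (x * (x * z * x⁻¹) * x⁻¹) * x⁻¹) * x := by rw [conj_three hP.sc]
    _ = x * (x * z * x⁻¹) * x⁻¹ := by group
    _ = _ := hnext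

/-- An element of order three of the normaliser lies in `U x` or `U x⁻¹`. -/
theorem Pos.three_cases (hS : Setup G) (hP : Pos x U T) {c : G}
    (hc : c ∈ normalizer (U : Set G)) (hc3 : orderOf c = 3) :
    ∃ u ∈ U, c = u * x ∨ c = u * x⁻¹ := by
  have hI := hP.max.inv
  have hxN : zpowers x ≤ normalizer (U : Set G) :=
    zpowers_le.2 (mem_normalizer_of_inv hP.sc hI)
  have hcard : Nat.card ↥(zpowers x ⊔ U) = 3 * Nat.card U := by
    have h1 := Modules.card_sup_mul_card_inf hxN
    have h2 : Nat.card ↥(zpowers x ⊓ U) = 1 := by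
      refine Nat.eq_one_of_dvd_coprimes ?_ (Subgroup.card_dvd_of_le inf_le_left)
        (Subgroup.card_dvd_of_le inf_le_right)
      rw [Nat.card_zpowers, hP.sc.order]
      exact (Nat.Prime.coprime_iff_not_dvd Nat.prime_three).2 hI.ndvd
    rw [h2, mul_one, Nat.card_zpowers, hP.sc.order] at h1
    exact h1
  have hLN : zpowers x ⊔ U ≤ normalizer (U : Set G) := sup_le hxN le_normalizer
  have hidx := Subgroup.card_mul_index ((zpowers x ⊔ U).subgroupOf (normalizer (U : Set G)))
  rw [Nat.card_congr (Subgroup.subgroupOfEquivOfLe hLN).toEquiv, hcard] at hidx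
  have hmem : c ∈ zpowers x ⊔ U := by
    have h2 : (⟨c, hc⟩ : normalizer (U : Set G)) * ⟨c, hc⟩ ∈
        (zpowers x ⊔ U).subgroupOf (normalizer (U : Set G)) := by
      rcases (hP.max.card_normalizer hS hP.sc hP.ne_bot).1 with e | e
      · rw [e] at hidx
        have h1 : ((zpowers x ⊔ U).subgroupOf (normalizer (U : Set G))).index = 1 := by
          have := Nat.card_pos (α := U); nlinarith
        rw [Subgroup.index_eq_one.1 h1]; exact Subgroup.mem_top _
      · rw [e] at hidx
        refine Subgroup.mul_self_mem_of_index_two ?_ _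
        have := Nat.card_pos (α := U); nlinarith
    have h3 : c * c ∈ zpowers x ⊔ U := h2
    have h4 : c * c * (c * c) = c := by
      calc c * c * (c * c) = c ^ orderOf c * c := by rw [hc3]; simp [pow_succ, mul_assoc]
        _ = c := by rw [pow_orderOf_eq_one, one_mul]
    exact h4 ▸ mul_mem h3 h3
  rw [sup_comm, ← SetLike.mem_coe, Subgroup.coe_mul_of_right_le_normalizer_left _ _ hxN] at hmem
  obtain ⟨u, hu, w, hw, rfl⟩ := Set.mem_mul.1 hmem
  refine ⟨u, hu, ?_⟩
  rcases hP.sc.mem_zpowers_cases hw with rfl | rfl | rfl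
  · exfalso
    rw [mul_one] at hc3
    exact hI.ndvd (hc3 ▸ Subgroup.orderOf_dvd_natCard U hu)
  · exact Or.inl rfl
  · exact Or.inr rfl

/-- An element of `T` normalising `U`, outside its 2-part, inverts `x` modulo `U`. -/
theorem Pos.move (hS : Setup G) (hz : Zc T z) (hP : Pos x U T) {s : G}
    (hsT : s ∈ (T : Subgroup G)) (hsN : s ∈ normalizer (U : Set G)) (hsP : s ∉ qp U 2) :
    (∃ u ∈ U, s * x * s⁻¹ = u * x⁻¹) ∧
      s * (x * z * x⁻¹) * s⁻¹ = z * (x * z * x⁻¹) := by
  have hv := hP.vfacts hS hz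
  have hsz : s * z * s⁻¹ = z := by rw [(hz.cent s hsT).eq, mul_inv_cancel_right]
  have hxN := mem_normalizer_of_inv hP.sc hP.max.inv
  obtain ⟨u, hu, e | e⟩ := hP.three_cases hS (mul_mem (mul_mem hsN hxN) (inv_mem hsN))
    (hP.sc.conj s).order
  · exfalso
    obtain ⟨k, hk, hke⟩ := hP.max.inv.exists_twist hP.sc hu
    have hc : Commute (k * s) x := by
      show k * s * x = x * (k * s)
      calc k * s * x = k * (s * x * s⁻¹) * s := by group
        _ = x * (k * s) := by rw [e, ← hke]; group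
    have hsU : s ∈ U := by
      have hkz : k⁻¹ * z * k = z := by
        rw [mul_assoc, (hv.centz k hk).eq, inv_mul_cancel_left]
      rcases hP.sc.mem_zpowers_cases (hP.sc.cent _ hc) with h1 | h1 | h1
      · rw [eq_inv_of_mul_eq_one_right h1]; exact inv_mem hk
      · exfalso
        have hs : s = k⁻¹ * x := by rw [← h1]; group
        refine hv.ne ?_
        calc x * z * x⁻¹ = k * (s * z * s⁻¹) * k⁻¹ := by rw [hs]; group
          _ = k * z * k⁻¹ := by rw [hsz]
          _ = z := by rw [← (hv.centz k hk).eq, mul_inv_cancel_right]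
      · exfalso
        have hs : s = k⁻¹ * x⁻¹ := by rw [← h1]; group
        refine hv.ne_one ?_
        have h2 : z * (x * z * x⁻¹) = z := by
          rw [← hv.back]
          calc x⁻¹ * z * x = k * (s * z * s⁻¹) * k⁻¹ := by rw [hs]; group
            _ = k * z * k⁻¹ := by rw [hsz]
            _ = z := by rw [← (hv.centz k hk).eq, mul_inv_cancel_right]
        exact mul_eq_left.1 h2
    exact hsP (hP.mem_qp hsT hsU)
  · refine ⟨⟨u, hu, e⟩, ?_⟩
    have hcomm : Commute (z * (x * z * x⁻¹)) u := (hv.centz u hu).mul_left (hv.cent u hu)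
    calc s * (x * z * x⁻¹) * s⁻¹ = (s * x * s⁻¹) * (s * z * s⁻¹) * (s * x * s⁻¹)⁻¹ := by group
      _ = u * (x⁻¹ * z * x) * u⁻¹ := by rw [e, hsz]; group
      _ = _ := by rw [hv.back, ← hcomm.eq, mul_inv_cancel_right]

theorem Pos.conj_cases (hS : Setup G) (hz : Zc T z) (hP : Pos x U T) {s : G}
    (hsT : s ∈ (T : Subgroup G)) (hsN : s ∈ normalizer (U : Set G)) :
    (s ∈ qp U 2 ∧ s * (x * z * x⁻¹) * s⁻¹ = x * z * x⁻¹) ∨
      (s ∉ qp U 2 ∧ s * (x * z * x⁻¹) * s⁻¹ = z * (x * z * x⁻¹)) := by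
  by_cases h : s ∈ qp U 2
  · refine Or.inl ⟨h, ?_⟩
    rw [← ((hP.vfacts hS hz).cent s (qp_le U 2 h)).eq, mul_inv_cancel_right]
  · exact Or.inr ⟨h, (hP.move hS hz hsT hsN h).2⟩

/-- The comparison of two of these 2-parts. -/
theorem Pos.pair (hS : Setup G) (hz : Zc T z) (hP : Pos x U T) (hP' : Pos y U' T)
    (hbig : 4 < Nat.card (qp U 2)) (hN : qp U 2 ≤ normalizer (U' : Set G))
    (hv' : y * z * y⁻¹ ∈ normalizer (U : Set G)) : qp U 2 ≤ qp U' 2 := by
  have hv := hP.vfacts hS hz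
  have hw := hP'.vfacts hS hz
  have hI := hP.inv_qp
  set v := y * z * y⁻¹ with hvdef
  set z1 := x * z * x⁻¹ with hz1
  set P := qp U 2 with hPdef
  have hzP : z ∈ P := hP.mem_z hS hz
  have hzc : ∀ p ∈ P, Commute z p := fun p hp => (hz.cent p (hP.le hp)).symm
  have hcase : ∀ p ∈ P, p * v * p⁻¹ = v ∨ p * v * p⁻¹ = z * v := fun p hp =>
    (hP'.conj_cases hS hz (hP.le hp) (hN hp)).imp And.right And.right
  have hidx : ∀ p ∈ P, ∀ q ∈ P, p * v * p⁻¹ = z * v → q * v * q⁻¹ = z * v →
      Commute (p * q) v := fun p hp q hq h1 h2 => by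
    refine mul_inv_eq_iff_eq_mul.1 ?_
    calc p * q * v * (p * q)⁻¹ = p * (q * v * q⁻¹) * p⁻¹ := by group
      _ = (p * z) * v * p⁻¹ := by rw [h2]; group
      _ = z * (p * v * p⁻¹) := by rw [← (hzc p hp).eq]; group
      _ = v := by rw [h1, ← mul_assoc, hz.sq, one_mul]
  let F : Subgroup G := P ⊓ centralizer ({v} : Set G)
  have hFmem : ∀ p, p ∈ F ↔ p ∈ P ∧ Commute p v := fun p => by
    simp only [F, Subgroup.mem_inf]
    exact and_congr_right fun _ => mem_centralizer_singleton_iff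
  have hFcard : Nat.card P = Nat.card F ∨ Nat.card P = 2 * Nat.card F := by
    by_cases hall : ∀ p ∈ P, Commute p v
    · exact Or.inl (by rw [show F = P from le_antisymm inf_le_left fun p hp => (hFmem p).2
        ⟨hp, hall p hp⟩])
    · push_neg at hall
      obtain ⟨q, hq, hqv⟩ := hall
      have hqz : q * v * q⁻¹ = z * v := (hcase q hq).resolve_left fun e =>
        hqv (mul_inv_eq_iff_eq_mul.1 e)
      have hidx2 : (F.subgroupOf P).index = 2 := by
        rw [Subgroup.index_eq_two_iff]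
        refine ⟨⟨q, hq⟩, fun b => ?_⟩
        by_cases hb : Commute (b : G) v
        · refine Or.inr ⟨((hFmem _).2 ⟨b.2, hb⟩ : (b : G) ∈ F), fun h1 => hqv ?_⟩
          have h2 : Commute ((b : G) * q) v := ((hFmem _).1 h1).2
          have := hb.inv_left.mul_left h2
          rwa [inv_mul_cancel_left] at this
        · refine Or.inl ⟨(hFmem _).2 ⟨mul_mem b.2 hq, hidx b b.2 q hq ?_ hqz⟩,
            fun h1 => hb ((hFmem _).1 h1).2⟩
          exact (hcase b b.2).resolve_left fun e => hb (mul_inv_eq_iff_eq_mul.1 e)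
      refine Or.inr ?_
      rw [← Subgroup.card_mul_index (F.subgroupOf P), hidx2,
        Nat.card_congr (Subgroup.subgroupOfEquivOfLe inf_le_left).toEquiv, mul_comm]
  by_cases hvP : v ∈ P
  · -- `v` is central in the 2-part
    have hkey : ∀ p ∈ F, x⁻¹ * p * x ∈ F := by
      intro p hp
      obtain ⟨hpP, hpv⟩ := (hFmem p).1 hp
      have hqP : x⁻¹ * p * x ∈ P := by simpa using hI.conj_inv hP.sc hpP
      refine (hFmem _).2 ⟨hqP, ?_⟩
      set q := x⁻¹ * p * x with hq
      -- conjugating `v` by `q`, transported by `x`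
      set v2 := x * v * x⁻¹ with hv2
      set v3 := x * v2 * x⁻¹ with hv3
      have hv2P : v2 ∈ P := hI.conj _ hvP
      have hprod : v * v2 * v3 = 1 := hI.mul_conj_mul hP.sc hvP
      have he3 : v3 = (v * v2)⁻¹ := eq_inv_of_mul_eq_one_right hprod
      have hc2 : Commute p v2 := by
        have h1 := hcase (x⁻¹ * p * x) hqP
        have h1' := hcase (x⁻¹ * (x⁻¹ * p * x) * x) (by simpa using hI.conj_inv hP.sc hqP)
        rcases h1 with h1 | h1
        · have := (Commute.conj_iff x).2 (mul_inv_eq_iff_eq_mul.1 h1 : Commute (x⁻¹ * p * x) v)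
          rwa [show x * (x⁻¹ * p * x) * x⁻¹ = p by group] at this
        · exfalso
          have e2 : p * v2 * p⁻¹ = z1 * v2 := by
            calc p * v2 * p⁻¹ = x * (x⁻¹ * p * x * v * (x⁻¹ * p * x)⁻¹) * x⁻¹ := by rw [hv2]; group
              _ = z1 * v2 := by rw [h1, hv2, hz1]; group
          have e3 : p * v3 * p⁻¹ = z1 * v3 := by
            rw [he3]
            calc p * (v * v2)⁻¹ * p⁻¹ = ((p * v * p⁻¹) * (p * v2 * p⁻¹))⁻¹ := by group
              _ = (v * (z1 * v2))⁻¹ := by rw [e2, hpv.eq, mul_inv_cancel_right]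
              _ = (z1 * (v * v2))⁻¹ := by
                  rw [← mul_assoc, ← (hv.cent v (qp_le U 2 hvP)).eq, mul_assoc]
              _ = z1 * (v * v2)⁻¹ := by
                  rw [mul_inv_rev, inv_eq_of_mul_eq_one_right hv.sq]
                  exact ((hv.cent _ (inv_mem (qp_le U 2 (mul_mem hvP hv2P)))).symm).eq
          rcases h1' with h1' | h1'
          · have e4 : p * v3 * p⁻¹ = v3 := by
              calc p * v3 * p⁻¹ = x * (x * (x⁻¹ * (x⁻¹ * p * x) * x * v *
                    (x⁻¹ * (x⁻¹ * p * x) * x)⁻¹) * x⁻¹) * x⁻¹ := by rw [hv3, hv2]; group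
                _ = v3 := by rw [h1']
            rw [e3] at e4
            exact hv.ne_one (mul_eq_right.1 e4)
          · have e4 : p * v3 * p⁻¹ = (z * z1) * v3 := by
              calc p * v3 * p⁻¹ = x * (x * (x⁻¹ * (x⁻¹ * p * x) * x * v *
                    (x⁻¹ * (x⁻¹ * p * x) * x)⁻¹) * x⁻¹) * x⁻¹ := by rw [hv3, hv2]; group
                _ = (x * (x * z * x⁻¹) * x⁻¹) * v3 := by rw [h1', hv3, hv2]; group
                _ = _ := by rw [hv.next_eq]
            rw [e3, mul_left_inj] at e4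
            exact hz.ne_one (mul_eq_right.1 e4.symm)
      have := (Commute.conj_iff x⁻¹).2 hc2
      rw [show x⁻¹ * v2 * x⁻¹⁻¹ = v by rw [hv2]; group, inv_inv] at this
      exact this
    have hFI : Inv x F := by
      refine ⟨fun m hm => ?_, fun e => hI.ndvd (e.trans (Subgroup.card_dvd_of_le inf_le_left))⟩
      have := hkey _ (hkey m hm)
      rwa [show x⁻¹ * (x⁻¹ * m * x) * x = x * m * x⁻¹ by
        rw [hP.sc.inv_eq]
        calc x * x * (x * x * m * x) * x = (x * x * x) * (x * m * (x * x)) := by group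
          _ = x * m * (x * x) := by rw [hP.sc.cube, one_mul]] at this
    have hall : P ≤ F := by
      rcases hFcard with e | e
      · exact (Subgroup.eq_of_le_of_card_ge inf_le_left e.le).ge
      · have h1 := hI.card_mod hP.sc
        have h2 := hFI.card_mod hP.sc
        rw [e] at h1
        omega
    intro p hp
    by_contra hpn
    have h1 := (hP'.move hS hz (hP.le hp) (hN hp) hpn).2
    rw [← hvdef, ((hFmem p).1 (hall hp)).2.eq, mul_inv_cancel_right] at h1
    exact hz.ne_one (mul_eq_right.1 h1.symm)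
  · -- `v` would invert `x`
    exfalso
    have hvT : v ∈ (T : Subgroup G) := hP'.le hw.mem
    obtain ⟨⟨u, hu, hux⟩, -⟩ := hP.move hS hz hvT hv' hvP
    set w := x * v * x⁻¹ * v⁻¹ with hwdef
    have hw_eq : w = x * x * u⁻¹ := by
      have h1 : (v * x * v⁻¹)⁻¹ = (u * x⁻¹)⁻¹ := by rw [hux]
      rw [hwdef, show x * v * x⁻¹ * v⁻¹ = x * (v * x * v⁻¹)⁻¹ by group, h1]
      group
    let Z : Subgroup G := P ⊓ centralizer (P : Set G)
    have hZmem : ∀ a, a ∈ Z ↔ a ∈ P ∧ ∀ q ∈ P, Commute a q := fun a => by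
      simp only [Z, Subgroup.mem_inf]
      exact and_congr_right fun _ => ⟨fun ha q hq => (mem_centralizer_iff.1 ha q hq).symm,
        fun ha => mem_centralizer_iff.2 fun q hq => (ha q hq).symm.eq⟩
    have hZx : ∀ a ∈ Z, x * a * x⁻¹ ∈ Z := fun a ha => by
      obtain ⟨haP, hac⟩ := (hZmem a).1 ha
      refine (hZmem _).2 ⟨hI.conj a haP, fun q hq => ?_⟩
      have := (Commute.conj_iff x).2 (hac _ (hI.conj_inv hP.sc hq))
      rwa [show x * (x⁻¹ * q * x⁻¹⁻¹) * x⁻¹ = q by group] at this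
    have hV : ∀ a ∈ P, (∀ q ∈ U, Commute a q) → a ∈ Z := fun a ha hq =>
      (hZmem a).2 ⟨ha, fun q hq' => hq q (qp_le U 2 hq')⟩
    have hzZ : z ∈ Z := hV z hzP hv.centz
    have hz1Z : z1 ∈ Z := hV z1 hv.mem hv.cent
    have hact : ∀ p ∈ P, ∃ c ∈ Z, v * p * v⁻¹ = c * p := fun p hp => by
      rcases hcase p hp with e | e
      · exact ⟨1, one_mem _, by
          have hc : Commute p v := mul_inv_eq_iff_eq_mul.1 e
          rw [← hc.eq, mul_inv_cancel_right, one_mul]⟩
      · refine ⟨z, hzZ, ?_⟩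
        have e' : p * v = z * v * p := mul_inv_eq_iff_eq_mul.1 e
        calc v * p * v⁻¹ = z⁻¹ * (z * v * p) * v⁻¹ := by group
          _ = z * p := by rw [← e', inv_eq_of_mul_eq_one_right hz.sq]; group
    have hact2 : ∀ p ∈ P, ∃ c ∈ Z, w * p * w⁻¹ = c * p := fun p hp => by
      have hq : x⁻¹ * p * x⁻¹⁻¹ ∈ P := hI.conj_inv hP.sc hp
      obtain ⟨c, hc, e⟩ := hact _ hq
      obtain ⟨c', hc', e'⟩ : ∃ c' ∈ Z, v⁻¹ * p * v = c' * p := by
        obtain ⟨c', hc', e'⟩ := hact p hp
        refine ⟨(v⁻¹ * c' * v)⁻¹, ?_, ?_⟩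
        · have hn : v⁻¹ ∈ normalizer (P : Set G) := inv_mem (hP.normalizer_eq hS ▸ hv')
          have hmemP : v⁻¹ * c' * v ∈ P := by
            simpa using (mem_normalizer_iff.1 hn c').1 ((hZmem c').1 hc').1
          refine inv_mem ((hZmem _).2 ⟨hmemP, fun q hq' => ?_⟩)
          have hq2 : v * q * v⁻¹ ∈ P :=
            (mem_normalizer_iff.1 (hP.normalizer_eq hS ▸ hv') q).1 hq'
          have := (Commute.conj_iff v⁻¹).2 (((hZmem c').1 hc').2 _ hq2)
          rwa [inv_inv, show v⁻¹ * (v * q * v⁻¹) * v = q by group] at this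
        · calc v⁻¹ * p * v = (v⁻¹ * c' * v)⁻¹ * (v⁻¹ * (c' * p) * v) := by group
            _ = _ := by rw [← e']; group
      -- `w = (x v x⁻¹) v⁻¹`
      have hqc : x⁻¹ * (c' * p) * x⁻¹⁻¹ ∈ P :=
        hI.conj_inv hP.sc (mul_mem ((hZmem c').1 hc').1 hp)
      obtain ⟨d, hd, ed⟩ := hact _ hqc
      refine ⟨x * d * x⁻¹ * c', mul_mem (hZx d hd) hc', ?_⟩
      calc w * p * w⁻¹ = x * (v * (x⁻¹ * (v⁻¹ * p * v) * x⁻¹⁻¹) * v⁻¹) * x⁻¹ := by
            rw [hwdef]; group
        _ = _ := by rw [e', ed]; group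
    have hx2 : ∀ p ∈ P, ∃ c ∈ Z, x * x * p * (x * x)⁻¹ = c * p := fun p hp => by
      have hn : u ∈ normalizer (P : Set G) := by
        rw [hP.normalizer_eq hS]; exact le_normalizer hu
      have hp' : u * p * u⁻¹ ∈ P := (mem_normalizer_iff.1 hn p).1 hp
      obtain ⟨c, hc, e⟩ := hact2 _ hp'
      have hk : u * p * u⁻¹ * p⁻¹ ∈ Z :=
        (hZmem _).2 ⟨mul_mem hp' (inv_mem hp), fun q hq =>
          (hP.max.inv.commute_commutator hP.sc hu (qp_le U 2 hp) (qp_le U 2 hq)).symm⟩
      refine ⟨c * (u * p * u⁻¹ * p⁻¹), mul_mem hc hk, ?_⟩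
      calc x * x * p * (x * x)⁻¹ = w * (u * p * u⁻¹) * w⁻¹ := by rw [hw_eq]; group
        _ = _ := by rw [e]; group
    -- so `x` acts trivially modulo the centre
    have habel : ∀ m ∈ P, m ∈ Z := fun m hm => by
      obtain ⟨k, hk, rfl⟩ := hI.exists_twist hP.sc hm
      obtain ⟨c, hc, e⟩ := hx2 _ (hI.conj k hk)
      have e1 : x * x * (x * k * x⁻¹) * (x * x)⁻¹ = k := by
        calc x * x * (x * k * x⁻¹) * (x * x)⁻¹ = (x * x * x) * k * (x * x * x)⁻¹ := by group
          _ = k := by rw [hP.sc.cube]; simp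
      rw [e1] at e
      have e2 : x * k * x⁻¹ = c⁻¹ * k := by
        rw [eq_inv_mul_iff_mul_eq]; exact e.symm
      rw [e2]
      have : k⁻¹ * (c⁻¹ * k) = c⁻¹ := by
        rw [(((hZmem c).1 hc).2 k hk).inv_left.eq, inv_mul_cancel_left]
      rw [this]
      exact inv_mem hc
    have hbot : ∀ m ∈ F, x⁻¹ * m * x ∈ F → m = 1 := fun m hm hm' => by
      obtain ⟨hmP, hmv⟩ := (hFmem m).1 hm
      have hm2 : Commute m (x * v * x⁻¹) := by
        have := (Commute.conj_iff x).2 ((hFmem _).1 hm').2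
        rwa [show x * (x⁻¹ * m * x) * x⁻¹ = m by group] at this
      have hmw : Commute m w := hm2.mul_right hmv.inv_right
      have hmu : Commute m u :=
        hP.commute_of_central hmP (((hZmem m).1 (habel m hmP)).2) hu
      have hmxx : Commute m (x * x) := by
        have := hmw.mul_right hmu
        rwa [hw_eq, inv_mul_cancel_right] at this
      refine hI.eq_one hP.sc hmP ?_
      have := hmxx.mul_right hmxx
      rwa [show x * x * (x * x) = (x * x * x) * x by group, hP.sc.cube, one_mul] at this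
    have hFF : Nat.card F * Nat.card F ≤ Nat.card P := by
      have hFP : F ≤ P := inf_le_left
      have hcF : cj x F ≤ P := by
        rintro _ ⟨a, ha, rfl⟩; exact hI.conj a (hFP ha)
      have hn : F ≤ normalizer (cj x F : Set G) := fun a ha => by
        rw [mem_normalizer_iff]
        intro b
        have hcom : ∀ b ∈ P, a * b * a⁻¹ = b := fun b hb => by
          rw [(((hZmem a).1 (habel a (hFP ha))).2 b hb).eq, mul_inv_cancel_right]
        constructor
        · intro hb; rwa [hcom b (hcF hb)]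
        · intro hb
          have hbP : b ∈ P := by
            have h1 := hcF hb
            have := mul_mem (mul_mem (inv_mem (hFP ha)) h1) (hFP ha)
            simpa [mul_assoc] using this
          rwa [hcom b hbP] at hb
      have h1 := Modules.card_sup_mul_card_inf hn
      have h2 : F ⊓ cj x F = ⊥ := by
        refine eq_bot_iff.2 fun m hm => Subgroup.mem_bot.2 (hbot m hm.1 ?_)
        simpa using mem_cj.1 hm.2
      rw [h2, Subgroup.card_bot, mul_one, Fusion.card_cj] at h1
      rw [← h1]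
      exact Subgroup.card_le_of_le (sup_le hFP hcF)
    rcases hFcard with e | e <;> nlinarith

/-- A large 2-part has its Sylow subgroup in the normaliser. -/
theorem Pos.sylow_le (hS : Setup G) (hz : Zc T z) (hP : Pos x U T)
    (hbig : 4 < Nat.card (qp U 2)) : (T : Subgroup G) ≤ normalizer (U : Set G) := by
  by_contra hne
  set T1 := (T : Subgroup G) ⊓ normalizer (U : Set G) with hT1
  have hlt : T1 < (T : Subgroup G) := lt_of_le_of_ne inf_le_left fun e => hne (e ▸ inf_le_right)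
  obtain ⟨t, ⟨htT, htN⟩, htn⟩ := SetLike.exists_of_lt (Fusion.lt_normalizer_inf T.2 hlt)
  have hPT1 : qp U 2 ≤ T1 := le_inf hP.le ((qp_le U 2).trans le_normalizer)
  have heT1 : cj t T1 = T1 := Fusion.cj_eq_of_mem htN
  have hle : cj t (qp U 2) ≤ T1 := heT1 ▸ Fusion.cj_mono t hPT1
  have hq : qp (cj t U) 2 = cj t (qp U 2) := by
    refine le_antisymm ?_ (le_qp (hP.sc.conj t) (hP.max.conj t).inv
      (Fusion.isPGroup_cj (qp_isPGroup U 2) t) (Fusion.cj_mono t (qp_le U 2)))
    rw [Fusion.le_cj_iff]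
    exact le_qp hP.sc hP.max.inv (Fusion.isPGroup_cj (qp_isPGroup _ 2) _)
      (Fusion.cj_le_iff.2 (by rw [inv_inv]; exact qp_le _ 2))
  have hP' : Pos (t * x * t⁻¹) (cj t U) T :=
    ⟨hP.sc.conj t, hP.max.conj t, by rw [Fusion.card_cj]; exact hP.two,
      hq ▸ hle.trans inf_le_left⟩
  have hN : qp U 2 ≤ normalizer (cj t U : Set G) := by
    rw [← Fusion.cj_normalizer]
    exact (hPT1.trans_eq heT1.symm).trans (Fusion.cj_mono t inf_le_right)
  have hv' : t * x * t⁻¹ * z * (t * x * t⁻¹)⁻¹ ∈ normalizer (U : Set G) := by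
    have hmem : t * x * t⁻¹ * z * (t * x * t⁻¹)⁻¹ ∈ cj t (qp U 2) :=
      hq ▸ (hP'.vfacts hS hz).mem
    exact (hle hmem).2
  have h1 := hP.pair hS hz hP' hbig hN hv'
  rw [hq] at h1
  have h2 : t ∈ normalizer (qp U 2 : Set G) := Fusion.cj_eq_iff_mem_normalizer.1
    (Subgroup.eq_of_le_of_card_ge h1 (Fusion.card_cj t _).le).symm
  rw [hP.normalizer_eq hS] at h2
  exact htn ⟨htT, h2⟩

theorem Pos.four_mem (hS : Setup G) (hz : Zc T z) (hP : Pos x U T)
    (h4 : Nat.card (qp U 2) = 4) {m : G} (hm : m ∈ qp U 2) :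
    m = 1 ∨ m = z ∨ m = x * z * x⁻¹ ∨ m = z * (x * z * x⁻¹) := by
  classical
  have hv := hP.vfacts hS hz
  haveI := Fintype.ofFinite (qp U 2)
  let a : qp U 2 := ⟨z, hP.mem_z hS hz⟩
  let b : qp U 2 := ⟨x * z * x⁻¹, hv.mem⟩
  have h1 : ({1, a, b, a * b} : Finset (qp U 2)).card = 4 := by
    have n1 : (1 : qp U 2) ≠ a := fun e => hz.ne_one (congrArg Subtype.val e :).symm
    have n2 : (1 : qp U 2) ≠ b := fun e => hv.ne_one (congrArg Subtype.val e :).symm
    have n3 : (1 : qp U 2) ≠ a * b := fun e => hv.ne (by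
      have e' : z * (x * z * x⁻¹) = 1 := (congrArg Subtype.val e :).symm
      calc x * z * x⁻¹ = z⁻¹ := eq_inv_of_mul_eq_one_right e'
        _ = z := inv_eq_of_mul_eq_one_right hz.sq)
    have n4 : a ≠ b := fun e => hv.ne (congrArg Subtype.val e :).symm
    have n5 : a ≠ a * b := fun e => n2 (mul_eq_left.1 e.symm).symm
    have n6 : b ≠ a * b := fun e => n1 (mul_eq_right.1 e.symm).symm
    rw [Finset.card_insert_of_notMem (by simp [n1, n2, n3]),
      Finset.card_insert_of_notMem (by simp [n4, n5]), Finset.card_pair n6]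
  have h2 : ({1, a, b, a * b} : Finset (qp U 2)) = Finset.univ := by
    rw [← Finset.card_eq_iff_eq_univ, h1, ← Nat.card_eq_fintype_card, h4]
  have := Finset.mem_univ (⟨m, hm⟩ : qp U 2)
  rw [← h2] at this
  simpa [a, b, Subtype.ext_iff] using this

theorem Pos.four_cent (hS : Setup G) (hz : Zc T z) (hP : Pos x U T)
    (h4 : Nat.card (qp U 2) = 4) {s : G} (hsT : s ∈ (T : Subgroup G))
    (hc : Commute s (x * z * x⁻¹)) : s ∈ qp U 2 := by
  have hcomm : ∀ m ∈ qp U 2, Commute s m := fun m hm => by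
    rcases hP.four_mem hS hz h4 hm with rfl | rfl | rfl | rfl
    exacts [Commute.one_right s, hz.cent s hsT, hc, (hz.cent s hsT).mul_right hc]
  have hsN : s ∈ normalizer (U : Set G) := by
    rw [← hP.normalizer_eq hS, ← Fusion.cj_eq_iff_mem_normalizer]
    refine Subgroup.eq_of_le_of_card_ge ?_ (Fusion.card_cj s _).ge
    rintro _ ⟨m, hm, rfl⟩
    show s * m * s⁻¹ ∈ qp U 2
    rwa [(hcomm m hm).eq, mul_inv_cancel_right]
  by_contra hsP
  have h1 := (hP.move hS hz hsT hsN hsP).2
  rw [hc.eq, mul_inv_cancel_right] at h1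
  exact hz.ne_one (mul_eq_right.1 h1.symm)

/-- A four group and a larger 2-part do not occur together. -/
theorem Pos.big_four (hS : Setup G) (hz : Zc T z) (hP : Pos x U T) (hP' : Pos y U' T)
    (hbig : 4 < Nat.card (qp U 2)) (h4 : Nat.card (qp U' 2) = 4) : False := by
  classical
  have hv := hP.vfacts hS hz
  have hw := hP'.vfacts hS hz
  have hTN := hP.sylow_le hS hz hbig
  have hvT : y * z * y⁻¹ ∈ (T : Subgroup G) := hP'.le hw.mem
  have hz1T : x * z * x⁻¹ ∈ (T : Subgroup G) := hP.le hv.mem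
  set v := y * z * y⁻¹ with hvdef
  set z1 := x * z * x⁻¹ with hz1
  by_cases hvP : v ∈ qp U 2
  · have hz1' : z1 ∈ qp U' 2 :=
      hP'.four_cent hS hz h4 hz1T (hv.cent v (qp_le U 2 hvP))
    have hvc : ∀ p ∈ qp U 2, Commute p v := fun p hp => by
      rcases hP'.four_mem hS hz h4 hz1' with e | e | e | e
      · exact absurd e hv.ne_one
      · exact absurd e hv.ne
      · rw [show v = z1 from e.symm]; exact (hv.cent p (qp_le U 2 hp)).symm
      · have e' : v = z * z1 := by
          rw [e, ← mul_assoc, hz.sq, one_mul]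
        rw [e']
        exact (hz.cent p (hP.le hp)).mul_right (hv.cent p (qp_le U 2 hp)).symm
    have := Subgroup.card_le_of_le
      (fun p hp => hP'.four_cent hS hz h4 (hP.le hp) (hvc p hp) : qp U 2 ≤ qp U' 2)
    omega
  · have hswap := (hP.move hS hz hvT (hTN hvT) hvP).2
    rw [← hz1] at hswap
    set P := qp U 2 with hPdef
    have hzP : z ∈ P := hP.mem_z hS hz
    have hfix : ∀ p ∈ P, Commute p v → p = 1 ∨ p = z := fun p hp hc => by
      rcases hP'.four_mem hS hz h4 (hP'.four_cent hS hz h4 (hP.le hp) hc) with e | e | e | e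
      · exact Or.inl e
      · exact Or.inr e
      · refine absurd ?_ hvP
        rw [hvdef, ← e]; exact hp
      · refine absurd ?_ hvP
        have h' : z * (y * z * y⁻¹) ∈ P := by rw [← e]; exact hp
        have := mul_mem hzP h'
        rwa [← mul_assoc, hz.sq, one_mul] at this
    have hz2 : z * z = 1 := hz.sq
    have hc1 : Commute z z1 := (hv.centz z1 (qp_le U 2 hv.mem))
    let V : Subgroup G := zpowers z ⊔ zpowers z1
    have hVP : V ≤ P := sup_le (zpowers_le.2 hzP) (zpowers_le.2 hv.mem)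
    have hVcases : ∀ c ∈ V, c = 1 ∨ c = z ∨ c = z1 ∨ c = z * z1 := by
      intro c hc
      have hcl : c ∈ Subgroup.closure ({z, z1} : Set G) := by
        refine (sup_le (zpowers_le.2 (subset_closure (Set.mem_insert _ _)))
          (zpowers_le.2 (subset_closure (Set.mem_insert_of_mem _ rfl))) :
            V ≤ Subgroup.closure ({z, z1} : Set G)) hc
      clear hc
      induction hcl using Subgroup.closure_induction with
      | mem r hr => rcases hr with rfl | rfl <;> simp
      | one => simp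
      | mul a b _ _ iha ihb =>
        have hc2 := hc1.eq
        have hs2 : z1 * z1 = 1 := hv.sq
        rcases iha with rfl | rfl | rfl | rfl <;> rcases ihb with rfl | rfl | rfl | rfl <;>
          grind
      | inv a _ iha =>
        have hs2 : z1⁻¹ = z1 := inv_eq_of_mul_eq_one_right hv.sq
        have hs1 : z⁻¹ = z := inv_eq_of_mul_eq_one_right hz.sq
        rcases iha with rfl | rfl | rfl | rfl <;> simp [hs1, hs2, hc1.eq]
    have hzV : z ∈ V := (le_sup_left : zpowers z ≤ V) (mem_zpowers z)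
    have hz1V : z1 ∈ V := (le_sup_right : zpowers z1 ≤ V) (mem_zpowers z1)
    have hVn : P ≤ normalizer (V : Set G) := fun p hp => by
      rw [← Fusion.cj_eq_iff_mem_normalizer]
      refine Subgroup.eq_of_le_of_card_ge ?_ (Fusion.card_cj p V).ge
      rintro _ ⟨c, hc, rfl⟩
      show p * c * p⁻¹ ∈ V
      have : Commute p c := by
        rcases hVcases c hc with rfl | rfl | rfl | rfl
        exacts [Commute.one_right p, (hv.centz p (qp_le U 2 hp)).symm,
          (hv.cent p (qp_le U 2 hp)).symm,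
          ((hv.centz p (qp_le U 2 hp)).mul_left (hv.cent p (qp_le U 2 hp))).symm]
      rwa [this.eq, mul_inv_cancel_right]
    haveI hVP' : (V.subgroupOf P).Normal := normal_subgroupOf_of_le_normalizer hVn
    have hvN : v ∈ normalizer (P : Set G) := hP.normalizer_eq hS ▸ hTN hvT
    have hvv : v * v = 1 := hw.sq
    have hVv : ∀ c ∈ V, v * c * v⁻¹ ∈ V := by
      have e1 : v * z * v⁻¹ = z := by rw [(hz.cent v hvT).eq, mul_inv_cancel_right]
      intro c hc
      rcases hVcases c hc with rfl | rfl | rfl | rfl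
      · simp
      · rwa [e1]
      · rw [hswap]; exact mul_mem hzV hz1V
      · rw [show v * (z * z1) * v⁻¹ = (v * z * v⁻¹) * (v * z1 * v⁻¹) by group, e1, hswap]
        exact mul_mem hzV (mul_mem hzV hz1V)
    let φ : P → P := fun p => ⟨v * p * v⁻¹, (mem_normalizer_iff.1 hvN p).1 p.2⟩
    have hφ : ∀ a b : P, (QuotientGroup.mk a : P ⧸ V.subgroupOf P) = QuotientGroup.mk b →
        (QuotientGroup.mk (φ a) : P ⧸ V.subgroupOf P) = QuotientGroup.mk (φ b) := by
      intro a b hab
      rw [QuotientGroup.eq] at hab ⊢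
      have hab' : (a : G)⁻¹ * b ∈ V := hab
      show (v * (a : G) * v⁻¹)⁻¹ * (v * b * v⁻¹) ∈ V
      rw [show (v * (a : G) * v⁻¹)⁻¹ * (v * b * v⁻¹) = v * ((a : G)⁻¹ * b) * v⁻¹ by group]
      exact hVv _ hab'
    let f : P ⧸ V.subgroupOf P → P ⧸ V.subgroupOf P :=
      Quotient.map' φ fun a b hab => Quotient.exact' (hφ a b (Quotient.sound' hab))
    have hf : ∀ a : P, f (QuotientGroup.mk a) = QuotientGroup.mk (φ a) := fun a => rfl
    have hinv : Function.Involutive f := fun q => by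
      induction q using QuotientGroup.induction_on with
      | _ a =>
        rw [hf, hf]
        congr 1
        refine Subtype.ext ?_
        show v * (v * (a : G) * v⁻¹) * v⁻¹ = a
        calc v * (v * (a : G) * v⁻¹) * v⁻¹ = (v * v) * a * (v * v)⁻¹ := by group
          _ = a := by rw [hvv]; simp
    haveI := Fintype.ofFinite (P ⧸ V.subgroupOf P)
    have hVcard : Nat.card V ≤ 4 := by
      have hsub : (V : Set G) ⊆ ↑({1, z, z1, z * z1} : Finset G) := fun c hc => by
        simpa using hVcases c hc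
      calc Nat.card V = (V : Set G).ncard := (Nat.card_coe_set_eq _)
        _ ≤ _ := Set.ncard_le_ncard hsub
        _ ≤ 4 := by rw [Set.ncard_coe_finset]; exact Finset.card_le_four
    have heven : 2 ∣ Fintype.card (P ⧸ V.subgroupOf P) := by
      rw [← Nat.card_eq_fintype_card, ← Subgroup.index_eq_card]
      obtain ⟨k, hk⟩ := (qp_isPGroup U 2).index (V.subgroupOf P)
      rcases k with _ | k
      · exfalso
        have := Subgroup.card_le_of_le (Subgroup.subgroupOf_eq_top.1
          (Subgroup.index_eq_one.1 hk) : P ≤ V)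
        omega
      · exact hk ▸ dvd_pow_self 2 k.succ_ne_zero
    obtain ⟨q, hq, hq1⟩ := Equiv.Perm.exists_fixed_point_of_prime' (p := 2) (n := 1) heven
      (σ := hinv.toPerm f) (by
        refine Equiv.ext fun q => ?_
        rw [pow_one, pow_two]
        exact hinv q) (a := QuotientGroup.mk 1) (by
        show f (QuotientGroup.mk 1) = _
        rw [hf]
        congr 1
        exact Subtype.ext (by show v * ((1 : P) : G) * v⁻¹ = _; simp))
    induction q using QuotientGroup.induction_on with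
    | _ p =>
      replace hq : (QuotientGroup.mk (φ p) : P ⧸ V.subgroupOf P) = QuotientGroup.mk p := hq
      rw [QuotientGroup.eq] at hq
      set c := (v * (p : G) * v⁻¹)⁻¹ * p with hcdef
      have hcV : c ∈ V := hq
      have hpV : (p : G) ∉ V := fun hp => hq1 (by
        rw [QuotientGroup.eq, mul_one]
        exact inv_mem (hp : p ∈ V.subgroupOf P))
      have hpe : v * (p : G) * v⁻¹ = p * c⁻¹ := by rw [hcdef]; group
      have e1 : v * z * v⁻¹ = z := by rw [(hz.cent v hvT).eq, mul_inv_cancel_right]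
      have hvc : v * c * v⁻¹ = c⁻¹ := by
        have e0 : (v * v) * (p : G) * (v * v)⁻¹ = p := by rw [hvv]; simp
        have e2 : v * c * v⁻¹ = ((v * v) * (p : G) * (v * v)⁻¹)⁻¹ * (v * p * v⁻¹) := by
          rw [hcdef]; simp [mul_assoc]
        rw [e2, e0, hcdef]; group
      have hp_z : ∀ a ∈ P, Commute a v → (a = 1 ∨ a = z) := hfix
      rcases hVcases c hcV with e | e | e | e <;> rw [e] at hpe hvc
      · have : Commute (p : G) v := by
          rw [inv_one, mul_one] at hpe
          exact (mul_inv_eq_iff_eq_mul.1 hpe).symm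
        rcases hp_z p p.2 this with e' | e' <;> refine hpV ?_ <;> rw [e']
        exacts [one_mem V, hzV]
      · rw [inv_eq_of_mul_eq_one_right hz2] at hpe
        have hpz1 : v * ((p : G) * z1) * v⁻¹ = p * z1 := by
          calc v * ((p : G) * z1) * v⁻¹ = (v * p * v⁻¹) * (v * z1 * v⁻¹) := by group
            _ = p * z * (z * z1) := by rw [hpe, hswap]
            _ = p * z1 := by rw [mul_assoc, ← mul_assoc z z z1, hz2, one_mul]
        rcases hp_z _ (mul_mem p.2 hv.mem) (mul_inv_eq_iff_eq_mul.1 hpz1).symm with e' | e' <;>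
          refine hpV ?_
        · rw [eq_inv_of_mul_eq_one_left e']; exact inv_mem hz1V
        · rw [show (p : G) = p * z1 * z1⁻¹ by group, e']
          exact mul_mem hzV (inv_mem hz1V)
      · rw [hswap, inv_eq_of_mul_eq_one_right hv.sq] at hvc
        exact hz.ne_one (mul_eq_right.1 hvc)
      · rw [show v * (z * z1) * v⁻¹ = (v * z * v⁻¹) * (v * z1 * v⁻¹) by group, e1, hswap,
          ← mul_assoc, hz2, one_mul, mul_inv_rev, inv_eq_of_mul_eq_one_right hv.sq,
          inv_eq_of_mul_eq_one_right hz2] at hvc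
        exact hz.ne_one (mul_eq_left.1 hvc.symm)

theorem Pos.four_le (hP : Pos x U T) : 4 ≤ Nat.card (qp U 2) := by
  have h1 := hP.inv_qp.card_mod hP.sc
  have h2 := qp_ne_bot hP.sc hP.max.inv hP.two
  have h3 : 2 ∣ Nat.card (qp U 2) := by
    rw [card_qp hP.sc hP.max.inv 2]
    exact dvd_pow_self 2
      (Nat.Prime.factorization_pos_of_dvd Nat.prime_two Nat.card_pos.ne' hP.two).ne'
  have h4 := Nat.card_pos (α := qp U 2)
  omega

theorem Pos.eq_or_fours (hS : Setup G) (hz : Zc T z) (hP : Pos x U T) (hP' : Pos y U' T) :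
    U = U' ∨ (Nat.card (qp U 2) = 4 ∧ Nat.card (qp U' 2) = 4 ∧
      Nat.card (normalizer (U : Set G)) = 6 * Nat.card U ∧
      Nat.card (normalizer (U' : Set G)) = 6 * Nat.card U') := by
  have hE : qp U 2 = qp U' 2 → U = U' :=
    hP.max.eq_of_qp_eq hS hP.sc hP'.sc hP'.max hP.two hP'.two
  by_cases hb : 4 < Nat.card (qp U 2) <;> by_cases hb' : 4 < Nat.card (qp U' 2)
  · refine Or.inl (hE (le_antisymm ?_ ?_))
    · exact hP.pair hS hz hP' hb (hP.le.trans (hP'.sylow_le hS hz hb'))
        (hP.sylow_le hS hz hb (hP'.le (hP'.vfacts hS hz).mem))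
    · exact hP'.pair hS hz hP hb' (hP'.le.trans (hP.sylow_le hS hz hb))
        (hP'.sylow_le hS hz hb' (hP.le (hP.vfacts hS hz).mem))
  · exact (hP.big_four hS hz hP' hb (by have := hP'.four_le; omega)).elim
  · exact (hP'.big_four hS hz hP hb' (by have := hP.four_le; omega)).elim
  · have h4 : Nat.card (qp U 2) = 4 := by have := hP.four_le; omega
    have h4' : Nat.card (qp U' 2) = 4 := by have := hP'.four_le; omega
    rcases (hP.max.card_normalizer hS hP.sc hP.ne_bot).1 with e | e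
    · refine Or.inl (hE ?_)
      have hT := hP.max.sylow_qp hS hP.sc hP.two (Or.inr e) T hP.le
      exact (Subgroup.eq_of_le_of_card_ge (hP'.le.trans hT.ge) (by omega)).symm
    · rcases (hP'.max.card_normalizer hS hP'.sc hP'.ne_bot).1 with e' | e'
      · refine Or.inl (hE ?_)
        have hT := hP'.max.sylow_qp hS hP'.sc hP'.two (Or.inr e') T hP'.le
        exact Subgroup.eq_of_le_of_card_ge (hP.le.trans hT.ge) (by omega)
      · exact Or.inr ⟨h4, h4', e, e'⟩

theorem Pos.conj_of_conj (hS : Setup G) (hz : Zc T z) (hP : Pos x U T) (hP' : Pos y U' T)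
    (h4 : Nat.card (qp U 2) = 4) (h4' : Nat.card (qp U' 2) = 4) {t : G}
    (ht : t ∈ (T : Subgroup G)) (he : t * (x * z * x⁻¹) * t⁻¹ = y * z * y⁻¹) :
    cj t U = U' := by
  have hw := hP'.vfacts hS hz
  have hle : cj t (qp U 2) ≤ qp U' 2 := by
    rintro _ ⟨m, hm, rfl⟩
    show t * m * t⁻¹ ∈ qp U' 2
    have e1 : t * z * t⁻¹ = z := by rw [(hz.cent t ht).eq, mul_inv_cancel_right]
    rcases hP.four_mem hS hz h4 hm with rfl | rfl | rfl | rfl
    · simp
    · rw [e1]; exact hP'.mem_z hS hz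
    · rw [he]; exact hw.mem
    · rw [show t * (z * (x * z * x⁻¹)) * t⁻¹ = (t * z * t⁻¹) * (t * (x * z * x⁻¹) * t⁻¹) by group,
        e1, he]
      exact mul_mem (hP'.mem_z hS hz) hw.mem
  have hcard : Nat.card (qp U' 2) ≤ Nat.card (cj t (qp U 2)) := by rw [Fusion.card_cj]; omega
  have hEq := Subgroup.eq_of_le_of_card_ge hle hcard
  have h2 : 2 ∣ Nat.card (cj t U) := by rw [Fusion.card_cj]; exact hP.two
  refine (hP.max.conj t).eq_of_qp_eq hS (hP.sc.conj t) hP'.sc hP'.max h2 hP'.two ?_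
  rw [← hEq]
  refine le_antisymm ?_ (le_qp (hP.sc.conj t) (hP.max.conj t).inv
    (Fusion.isPGroup_cj (qp_isPGroup U 2) t) (Fusion.cj_mono t (qp_le U 2)))
  rw [Fusion.le_cj_iff]
  exact le_qp hP.sc hP.max.inv (Fusion.isPGroup_cj (qp_isPGroup _ 2) _)
    (Fusion.cj_le_iff.2 (by rw [inv_inv]; exact qp_le _ 2))

/-- The maximal invariant subgroups of even order are conjugate or few. -/
theorem even_classes (hS : Setup G) (h : SC x) (E : Finset (Subgroup G))
    (hE : ∀ U ∈ E, Max x U ∧ 2 ∣ Nat.card U) :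
    (∀ U ∈ E, ∀ U' ∈ E, ∃ g, cj g U = U') ∨
      ((∀ U ∈ E, Nat.card (normalizer (U : Set G)) = 6 * Nat.card U) ∧
        ((∀ U ∈ E, ∀ U' ∈ E, (∃ g, cj g U = U') → U = U') → E.card ≤ 3)) := by
  classical
  by_cases hall : ∀ U ∈ E, ∀ U' ∈ E, ∃ g, cj g U = U'
  · exact Or.inl hall
  refine Or.inr ?_
  push_neg at hall
  obtain ⟨A, hA, B, hB, hAB⟩ := hall
  obtain ⟨T⟩ : Nonempty (Sylow 2 G) := inferInstance
  have hex : ∀ U ∈ E, ∃ g, Pos (g * x * g⁻¹) (cj g U) T := by
    intro U hU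
    obtain ⟨Q, hQ⟩ := (qp_isPGroup U 2).exists_le_sylow
    obtain ⟨g, hg⟩ := Fusion.exists_cj_sylow Q T
    refine ⟨g, h.conj g, (hE U hU).1.conj g, by rw [Fusion.card_cj]; exact (hE U hU).2, ?_⟩
    rw [← hg, Fusion.le_cj_iff]
    exact (le_qp h (hE U hU).1.inv (Fusion.isPGroup_cj (qp_isPGroup _ 2) _)
      (Fusion.cj_le_iff.2 (by rw [inv_inv]; exact qp_le _ 2))).trans hQ
  choose! g hg using hex
  have hT : (T : Subgroup G) ≠ ⊥ := fun e => qp_ne_bot (hg A hA).sc (hg A hA).max.inv (hg A hA).two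
    (le_bot_iff.1 ((hg A hA).le.trans e.le))
  obtain ⟨z, hz⟩ := exists_zc T hT
  have hconj : ∀ U U', cj (g U) U = cj (g U') U' → ∃ k, cj k U = U' := fun U U' e =>
    ⟨(g U')⁻¹ * g U, by rw [← Fusion.cj_cj, e, Fusion.cj_inv_cj]⟩
  have hsix : ∀ U ∈ E, Nat.card (qp (cj (g U) U) 2) = 4 ∧
      Nat.card (normalizer (U : Set G)) = 6 * Nat.card U := by
    have hback : ∀ U, Nat.card (normalizer (cj (g U) U : Set G)) = 6 * Nat.card (cj (g U) U) →
        Nat.card (normalizer (U : Set G)) = 6 * Nat.card U := fun U e => by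
      rwa [← Fusion.cj_normalizer, Fusion.card_cj, Fusion.card_cj] at e
    intro U hU
    rcases (hg U hU).eq_or_fours hS hz (hg A hA) with e | ⟨h4, -, h6, -⟩
    · rcases (hg U hU).eq_or_fours hS hz (hg B hB) with e' | ⟨h4, -, h6, -⟩
      · obtain ⟨k, hk⟩ := hconj A B (e ▸ e')
        exact absurd hk (hAB k)
      · exact ⟨h4, hback U h6⟩
    · exact ⟨h4, hback U h6⟩
  refine ⟨fun U hU => (hsix U hU).2, fun huniq => ?_⟩
  haveI := Fintype.ofFinite (T : Subgroup G)
  let v : Subgroup G → G := fun U => (g U * x * (g U)⁻¹) * z * (g U * x * (g U)⁻¹)⁻¹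
  let cls : Subgroup G → Finset G := fun U =>
    Finset.univ.image fun t : (T : Subgroup G) => (t : G) * v U * (t : G)⁻¹
  have hsize : ∀ U ∈ E, Nat.card (T : Subgroup G) ≤ 4 * (cls U).card := by
    intro U hU
    rw [Nat.card_eq_fintype_card, ← Finset.card_univ]
    refine Finset.card_le_mul_card_image _ 4 fun a ha => ?_
    obtain ⟨t0, -, ht0⟩ := Finset.mem_image.1 ha
    haveI := Fintype.ofFinite (qp (cj (g U) U) 2)
    refine le_of_le_of_eq (Finset.card_le_card_of_injOn (t := Finset.univ.image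
      fun p : qp (cj (g U) U) 2 => (p : G)) (fun t => (t0 : G)⁻¹ * t) ?_ ?_) ?_
    · intro t ht
      simp only [Finset.coe_filter, Finset.mem_univ, true_and, Set.mem_setOf_eq] at ht
      simp only [Finset.coe_image, Finset.coe_univ, Set.image_univ, Subtype.range_coe_subtype,
        Set.mem_setOf_eq]
      refine (hg U hU).four_cent hS hz (hsix U hU).1 (mul_mem (inv_mem t0.2) t.2) ?_
      show (t0 : G)⁻¹ * t * v U = v U * ((t0 : G)⁻¹ * t)
      calc (t0 : G)⁻¹ * t * v U = (t0 : G)⁻¹ * (t * v U * (t : G)⁻¹) * t := by group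
        _ = v U * ((t0 : G)⁻¹ * t) := by rw [ht, ← ht0]; group
    · exact fun a _ b _ e => Subtype.ext (mul_left_cancel e)
    · rw [Finset.card_image_of_injective _ Subtype.val_injective, Finset.card_univ,
        ← Nat.card_eq_fintype_card, (hsix U hU).1]
  have hdisj : Set.PairwiseDisjoint (E : Set (Subgroup G)) cls := by
    intro U hU U' hU' hne
    refine Finset.disjoint_left.2 fun a ha ha' => hne ?_
    obtain ⟨t, -, rfl⟩ := Finset.mem_image.1 ha
    obtain ⟨t', -, e⟩ := Finset.mem_image.1 ha'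
    have hk : ((t' : G)⁻¹ * t) * v U * ((t' : G)⁻¹ * t)⁻¹ = v U' := by
      calc ((t' : G)⁻¹ * t) * v U * ((t' : G)⁻¹ * t)⁻¹
          = (t' : G)⁻¹ * (t * v U * (t : G)⁻¹) * t' := by group
        _ = v U' := by rw [← e]; group
    have h1 := (hg U hU).conj_of_conj hS hz (hg U' hU') (hsix U hU).1 (hsix U' hU').1
      (mul_mem (inv_mem t'.2) t.2) hk
    rw [Fusion.cj_cj] at h1
    exact huniq U hU U' hU' ⟨(g U')⁻¹ * ((t' : G)⁻¹ * t * g U),
      by rw [← Fusion.cj_cj, h1, Fusion.cj_inv_cj]⟩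
  have hunion : (E.biUnion cls).card <
      (Finset.univ.image fun t : (T : Subgroup G) => (t : G)).card := by
    refine Finset.card_lt_card (Finset.ssubset_iff_of_subset ?_ |>.2
      ⟨1, Finset.mem_image.2 ⟨1, Finset.mem_univ _, rfl⟩, ?_⟩)
    · intro a ha
      obtain ⟨U, hU, ha'⟩ := Finset.mem_biUnion.1 ha
      obtain ⟨t, -, rfl⟩ := Finset.mem_image.1 ha'
      exact Finset.mem_image.2 ⟨⟨_, mul_mem (mul_mem t.2
        ((hg U hU).le ((hg U hU).vfacts hS hz).mem)) (inv_mem t.2)⟩, Finset.mem_univ _, rfl⟩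
    · intro h1
      obtain ⟨U, hU, ha'⟩ := Finset.mem_biUnion.1 h1
      obtain ⟨t, -, e⟩ := Finset.mem_image.1 ha'
      exact ((hg U hU).vfacts hS hz).ne_one (conj_eq_one_iff.1 e)
  rw [Finset.card_biUnion hdisj, Finset.card_image_of_injective _ Subtype.val_injective,
    Finset.card_univ, ← Nat.card_eq_fintype_card] at hunion
  by_contra hk
  have h1 := Finset.sum_le_sum hsize
  rw [Finset.sum_const, smul_eq_mul, ← Finset.mul_sum] at h1
  have := Nat.mul_le_mul_right (Nat.card (T : Subgroup G)) (not_le.1 hk : 4 ≤ E.card)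
  omega

end Cfsg.Agent.SelfCentThree
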